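import Mathlib
import Cfsg.Agent.Lib.OddLocal.OmegaExtend
import Cfsg.Agent.Lib.Cores.Frattini
import Cfsg.Agent.Lib.Cores.Basic
import Cfsg.Agent.Lib.Cores.SmallPGroup

/-!
Elementary facts on `p`-groups in which the elements of order `p` of a subgroup are central in it,
used for the description of the `p`-groups of rank at most two.
-/

set_option autoImplicit false

open scoped commutatorElement

namespace Cfsg.Agent.Lib.RankTwo

universe u

variable {G : Type u} [Group G] [Finite G] {p : ℕ} [hp : Fact p.Prime]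

theorem dvd_choose (hp2 : p ≠ 2) : p ∣ p.choose 2 :=
  hp.out.dvd_choose_self two_ne_zero (lt_of_le_of_ne hp.out.two_le (Ne.symm hp2))

theorem dvd_choose_three (hp2 : p ≠ 2) (hp3 : p ≠ 3) : p ∣ p.choose 3 := by
  refine hp.out.dvd_choose_self three_ne_zero ?_
  have := hp.out.two_le
  omega

omit [Finite G] in
theorem pow_of_dvd {x : G} (hx : x ^ p = 1) {n : ℕ} (h : p ∣ n) : x ^ n = 1 := by
  obtain ⟨c, rfl⟩ := h
  rw [pow_mul, hx, one_pow]

omit [Finite G] in
/-- Powers of a product when the commutator is central of order `p`. -/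
theorem mul_pow_class_two (hp2 : p ≠ 2) {a b : G} (ha : Commute a ⁅b, a⁆) (hb : Commute b ⁅b, a⁆)
    (hc : ⁅b, a⁆ ^ p = 1) : (a * b) ^ p = a ^ p * b ^ p := by
  rw [OddLocal.mul_pow_of_central_commutator ha hb (by rw [commutatorElement_def]; group) p,
    pow_of_dvd hc (dvd_choose hp2), one_mul]

/-- The elements of order `p` of `M` commute with all of `M`. -/
def OmegaCentral (p : ℕ) (M : Subgroup G) : Prop := ∀ t ∈ M, t ^ p = 1 → ∀ m ∈ M, Commute t m

variable {M : Subgroup G}

/-- The `p`-th power map of `M` is injective modulo elements of order `p`. -/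
theorem inv_mul_pow_eq_one (hp2 : p ≠ 2) (hG : IsPGroup p G) (hM : OmegaCentral p M) {u v : G} (hu : u ∈ M)
    (hv : v ∈ M) (h : u ^ p = v ^ p) : (u⁻¹ * v) ^ p = 1 := by
  have := OddLocal.pow_eq_one_of_mul_pow_eq hp2 _ (hG.to_subgroup M) ⊤ inferInstance le_rfl
    (fun t _ ht => Subgroup.mem_center_iff.mpr fun m => Subtype.ext
      (hM t.1 t.2 (congrArg Subtype.val ht) m.1 m.2).eq.symm)
    ⟨u, hu⟩ ⟨u⁻¹ * v, M.mul_mem (M.inv_mem hu) hv⟩ (Subgroup.mem_top _) (Subtype.ext (by
      show (u * (u⁻¹ * v)) ^ p = u ^ p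
      rw [mul_inv_cancel_left, h]))
  exact congrArg Subtype.val this

/-- If `b ^ p` commutes with `a`, then `⁅a, b⁆` has order dividing `p`. -/
theorem commutator_pow_eq_one (hp2 : p ≠ 2) (hG : IsPGroup p G) (hM : OmegaCentral p M) {a b : G} (ha : a ∈ M)
    (hb : b ∈ M) (h : Commute a (b ^ p)) : ⁅a, b⁆ ^ p = 1 := by
  have hw := inv_mul_pow_eq_one hp2 hG hM hb (M.mul_mem (M.mul_mem ha hb) (M.inv_mem ha))
    (by rw [conj_pow, h.eq, mul_inv_cancel_right])
  have hm : b⁻¹ * (a * b * a⁻¹) ∈ M := M.mul_mem (M.inv_mem hb) (M.mul_mem (M.mul_mem ha hb) (M.inv_mem ha))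
  have hc := (hM _ hm hw b hb).eq
  have e : ⁅a, b⁆ = b⁻¹ * (a * b * a⁻¹) := by
    have e1 : ⁅a, b⁆ = b * (b⁻¹ * (a * b * a⁻¹)) * b⁻¹ := by rw [commutatorElement_def]; group
    rw [e1, ← hc, mul_inv_cancel_right]
  rw [e, hw]

theorem mul_pow_of_commute_pow (hp2 : p ≠ 2) (hG : IsPGroup p G) (hM : OmegaCentral p M) {a b : G} (ha : a ∈ M)
    (hb : b ∈ M) (h : Commute b (a ^ p)) : (a * b) ^ p = a ^ p * b ^ p := by
  have hc := commutator_pow_eq_one hp2 hG hM hb ha h
  have hcm : ⁅b, a⁆ ∈ M := by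
    rw [commutatorElement_def]
    exact M.mul_mem (M.mul_mem (M.mul_mem hb ha) (M.inv_mem hb)) (M.inv_mem ha)
  exact mul_pow_class_two hp2 (hM _ hcm hc a ha).symm (hM _ hcm hc b hb).symm hc

omit [Finite G] in
/-- Moving `x ^ i` to the left of `d`. -/
theorem iterate {d f η ε x : G} (hd : d * x = x * (d * f)) (hf : f * x = x * (f * η))
    (hη : η * x = x * (η * ε)) (hε : ε * x = x * ε) (hfη : Commute f η) (hfε : Commute f ε)
    (hηε : Commute η ε) (i : ℕ) :
    d * x ^ i = x ^ i * (d * f ^ i * η ^ i.choose 2 * ε ^ i.choose 3) := by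
  induction i with
  | zero => simp
  | succ i ih =>
    have hfi : f ^ i * x = x * (f ^ i * η ^ i) := by
      rw [← hfη.mul_pow]
      exact ((show SemiconjBy x (f * η) f from hf.symm).pow_right i).eq.symm
    have hηi : η ^ i.choose 2 * x = x * (η ^ i.choose 2 * ε ^ i.choose 2) := by
      rw [← hηε.mul_pow]
      exact ((show SemiconjBy x (η * ε) η from hη.symm).pow_right _).eq.symm
    have hεi : ε ^ i.choose 3 * x = x * ε ^ i.choose 3 :=
      ((show SemiconjBy x ε ε from hε.symm).pow_right _).eq.symm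
    have h1 : (i + 1).choose 2 = i + i.choose 2 := by
      rw [Nat.choose_succ_succ', Nat.choose_one_right]
    have h2 : (i + 1).choose 3 = i.choose 2 + i.choose 3 := Nat.choose_succ_succ' i 2
    calc d * x ^ (i + 1) = d * x ^ i * x := by rw [pow_succ, mul_assoc]
      _ = x ^ i * (d * f ^ i * η ^ i.choose 2 * (ε ^ i.choose 3 * x)) := by rw [ih]; simp only [mul_assoc]
      _ = x ^ i * (d * f ^ i * (η ^ i.choose 2 * x) * ε ^ i.choose 3) := by
        rw [hεi]; simp only [mul_assoc]
      _ = x ^ i * (d * (f ^ i * x) * η ^ i.choose 2 * ε ^ i.choose 2 * ε ^ i.choose 3) := by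
        rw [hηi]; simp only [mul_assoc]
      _ = x ^ i * (d * x * (f ^ i * η ^ i) * η ^ i.choose 2 * ε ^ i.choose 2 * ε ^ i.choose 3) := by
        rw [hfi]; simp only [mul_assoc]
      _ = x ^ (i + 1) * (d * f ^ (i + 1) * η ^ (i + 1).choose 2 * ε ^ (i + 1).choose 3) := by
        rw [hd, h1, h2, pow_succ, pow_succ' f, pow_add η, pow_add ε]
        simp only [mul_assoc]

omit [Finite G] in
/-- The powers of `x * m`. -/
theorem mul_pow_iterate {m c ε x : G} (hm : m * x = x * (m * c)) (hc : c * x = x * (c * ε))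
    (hε : ε * x = x * ε) (hmc : Commute m c) (hmε : Commute m ε) (hcε : Commute c ε) (i : ℕ) :
    (x * m) ^ i = x ^ i * (m ^ i * c ^ i.choose 2 * ε ^ i.choose 3) := by
  induction i with
  | zero => simp
  | succ i ih =>
    have hmi : m ^ i * x = x * (m ^ i * c ^ i) := by
      rw [← hmc.mul_pow]
      exact ((show SemiconjBy x (m * c) m from hm.symm).pow_right i).eq.symm
    have hci : c ^ i.choose 2 * x = x * (c ^ i.choose 2 * ε ^ i.choose 2) := by
      rw [← hcε.mul_pow]
      exact ((show SemiconjBy x (c * ε) c from hc.symm).pow_right _).eq.symm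
    have hεi : ε ^ i.choose 3 * x = x * ε ^ i.choose 3 :=
      ((show SemiconjBy x ε ε from hε.symm).pow_right _).eq.symm
    have h1 : (i + 1).choose 2 = i + i.choose 2 := by
      rw [Nat.choose_succ_succ', Nat.choose_one_right]
    have h2 : (i + 1).choose 3 = i.choose 2 + i.choose 3 := Nat.choose_succ_succ' i 2
    have hm1 : c ^ i * (c ^ i.choose 2 * (ε ^ i.choose 2 * (ε ^ i.choose 3 * m))) =
        m * (c ^ i * (c ^ i.choose 2 * (ε ^ i.choose 2 * ε ^ i.choose 3))) := by
      have h := ((hmc.pow_right i).mul_right ((hmc.pow_right (i.choose 2)).mul_right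
        ((hmε.pow_right (i.choose 2)).mul_right (hmε.pow_right (i.choose 3))))).eq.symm
      simpa only [mul_assoc] using h
    calc (x * m) ^ (i + 1) = x ^ i * (m ^ i * c ^ i.choose 2 * (ε ^ i.choose 3 * x) * m) := by
          rw [pow_succ, ih]; simp only [mul_assoc]
      _ = x ^ i * (m ^ i * (c ^ i.choose 2 * x) * ε ^ i.choose 3 * m) := by rw [hεi]; simp only [mul_assoc]
      _ = x ^ i * ((m ^ i * x) * c ^ i.choose 2 * ε ^ i.choose 2 * ε ^ i.choose 3 * m) := by
        rw [hci]; simp only [mul_assoc]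
      _ = x ^ (i + 1) * (m ^ i * (c ^ i * (c ^ i.choose 2 * (ε ^ i.choose 2 * (ε ^ i.choose 3 * m))))) := by
        rw [hmi, pow_succ x]; simp only [mul_assoc]
      _ = _ := by
        rw [hm1, h1, h2, pow_succ m, pow_add c, pow_add ε]
        simp only [mul_assoc]

/-- A normal subgroup of order at most `p` of a `p`-group is central. -/
theorem le_center_of_card_le (hG : IsPGroup p G) {N : Subgroup G} [N.Normal] (h : Nat.card N ≤ p) :
    N ≤ Subgroup.center G := by
  by_cases hN : N = ⊥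
  · rw [hN]; exact bot_le
  obtain ⟨w, hw, hwo, hwc⟩ := PLocal.exists_central_prime_mem hG hN
  rw [← Subgroup.eq_of_le_of_card_ge (Subgroup.zpowers_le.mpr hw) (by rw [Nat.card_zpowers, hwo]; exact h)]
  exact Subgroup.zpowers_le.mpr hwc

/-- Commutators with a normal subgroup of order `p ^ 2` are central. -/
theorem commutator_mem_center (hG : IsPGroup p G) (E : Subgroup G) [E.Normal] (hE : Nat.card E = p ^ 2)
    {e : G} (he : e ∈ E) (g : G) : ⁅e, g⁆ ∈ Subgroup.center G := by
  have hE1 : E ≠ ⊥ := fun h => by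
    rw [h, Subgroup.card_bot] at hE
    exact absurd hE.symm (Nat.one_lt_pow two_ne_zero hp.out.one_lt).ne'
  have hlt : ⁅E, (⊤ : Subgroup G)⁆ < E := Coprime.commutator_lt_of_isPGroup (hG.to_subgroup E)
    (hG.to_subgroup ⊤) (fun g _ => by rw [Subgroup.normalizer_eq_top]; trivial) hE1
  obtain ⟨k, hk, hMk⟩ := (Nat.dvd_prime_pow hp.out).mp (hE ▸ Subgroup.card_dvd_of_le hlt.le)
  have hle : Nat.card ↥⁅E, (⊤ : Subgroup G)⁆ ≤ p := by
    rw [hMk]
    refine (Nat.pow_le_pow_right hp.out.pos (show k ≤ 1 from ?_)).trans (by rw [pow_one])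
    by_contra h
    exact hlt.ne (Subgroup.eq_of_le_of_card_ge hlt.le (by rw [hE, hMk, show k = 2 by omega]))
  exact le_center_of_card_le hG hle (Subgroup.commutator_mem_commutator he (Subgroup.mem_top g))

/-- A group of order dividing `p ^ 2` is commutative. -/
theorem isMulCommutative_of_card_dvd_sq (h : Nat.card G ∣ p ^ 2) : IsMulCommutative G := by
  have hG : IsPGroup p G := by
    obtain ⟨k, -, hk⟩ := (Nat.dvd_prime_pow hp.out).mp h
    exact IsPGroup.of_card hk
  rcases subsingleton_or_nontrivial G with hs | hs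
  · exact ⟨⟨fun _ _ => Subsingleton.elim _ _⟩⟩
  have hz : p ∣ Nat.card (Subgroup.center G) := by
    haveI := hG.center_nontrivial
    exact (hG.to_subgroup _).card_eq_or_dvd.resolve_left Finite.one_lt_card.ne'
  refine Cores.isMulCommutative_of_center_index_dvd (p := p) ?_
  obtain ⟨c, hc⟩ := hz
  have h1 := (Subgroup.center G).card_mul_index
  rw [hc, mul_assoc] at h1
  rw [← h1, sq, Nat.mul_dvd_mul_iff_left hp.out.pos] at h
  exact (dvd_mul_left _ c).trans h

theorem commutator_le_of_index_dvd_sq (N : Subgroup G) [N.Normal] (h : N.index ∣ p ^ 2) :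
    commutator G ≤ N := by
  haveI := isMulCommutative_of_card_dvd_sq (G := G ⧸ N) (p := p) (by rwa [← Subgroup.index_eq_card])
  exact (inferInstance : N.Normal).quotient_commutative_iff_commutator_le.mp ⟨⟨mul_comm'⟩⟩

end Cfsg.Agent.Lib.RankTwo
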