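import Cfsg.Agent.Lib.RankTwo.MaxClass
import Cfsg.Agent.Lib.PGroups.BurnsideBasis
import Cfsg.Agent.Lib.Frobenius.Structure
import Cfsg.Agent.Lib.Classification.CyclicNormalAbelian

/-!
`2`-groups of maximal class, and `2`-groups in which non-cyclic subgroups contain their centralisers.
-/

set_option autoImplicit false

open scoped commutatorElement

namespace Cfsg.Agent.Lib.RankTwo

universe u

variable {G : Type u} [Group G] [Finite G] {p : ℕ} [hp : Fact p.Prime]

/-- In a group of order `p ^ (m + 2)` the `(j + 1)`-st term of the lower central series has order dividing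
`p ^ (m - j)`. -/
theorem card_lowerCentralSeries_le {m : ℕ} (hm : Nat.card G = p ^ (m + 2)) :
    ∀ j : ℕ, Nat.card ((⊤ : Subgroup G).lowerCentralSeries (j + 1)) ≤ p ^ (m - j) := by
  have hG : IsPGroup p G := IsPGroup.of_card hm
  haveI := hG.isNilpotent
  intro j
  induction j with
  | zero =>
    rw [Subgroup.lowerCentralSeries_succ, Subgroup.lowerCentralSeries_zero, ← commutator_def, Nat.sub_zero]
    obtain ⟨k, hk⟩ := hG.index (commutator G)
    by_cases hk2 : 2 ≤ k
    · have h := (commutator G).card_mul_index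
      rw [hm, hk, show k = k - 2 + 2 by omega, pow_add _ (k - 2), pow_add _ m, ← mul_assoc] at h
      have h' := Nat.eq_of_mul_eq_mul_right (pow_pos hp.out.pos 2) h
      rw [← h']
      exact Nat.le_mul_of_pos_right _ (pow_pos hp.out.pos _)
    have hd : Nat.card (G ⧸ frattini G) ∣ p ^ 1 := by
      rw [← Subgroup.index_eq_card]
      exact (Subgroup.index_dvd_of_le Cores.commutator_le_frattini).trans (hk ▸ pow_dvd_pow p (by omega))
    obtain ⟨f, hf⟩ := PGroups.exists_generators_of_card hd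
    choose g hg using fun i => QuotientGroup.mk'_surjective (frattini G) (f i)
    have h1 := PGroups.closure_eq_top_of_mk g (by
      rw [show (fun i => (g i : G ⧸ frattini G)) = f from funext hg]; exact hf)
    have hcyc : IsCyclic G := isCyclic_iff_exists_zpowers_eq_top.mpr ⟨g 0, by
      rw [← h1, Subgroup.zpowers_eq_closure]
      congr 1
      ext y
      simp only [Set.mem_singleton_iff, Set.mem_range, Fin.exists_fin_one, eq_comm]⟩
    have hbot : commutator G = ⊥ := by
      rw [commutator_def, eq_bot_iff, Subgroup.commutator_le]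
      intro u _ v _
      rw [Subgroup.mem_bot, commutatorElement_eq_one_iff_mul_comm]
      exact (IsCyclic.commGroup (α := G)).mul_comm u v
    rw [hbot, Subgroup.card_bot]
    exact Nat.one_le_pow _ _ hp.out.pos
  | succ j ih =>
    set L := (⊤ : Subgroup G).lowerCentralSeries (j + 1) with hL
    rw [Subgroup.lowerCentralSeries_succ, ← hL]
    by_cases hL1 : L = ⊥
    · rw [hL1, Subgroup.commutator_bot_left, Subgroup.card_bot]
      exact Nat.one_le_pow _ _ hp.out.pos
    have hlt : ⁅L, (⊤ : Subgroup G)⁆ < L := Coprime.commutator_lt_of_isPGroup (hG.to_subgroup L)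
      (hG.to_subgroup ⊤) (fun g _ => by rw [hL, Subgroup.normalizer_eq_top]; trivial) hL1
    obtain ⟨a, ha⟩ := IsPGroup.iff_card.mp (hG.to_subgroup L)
    obtain ⟨b, hb, hb'⟩ := (Nat.dvd_prime_pow hp.out).mp (ha ▸ Subgroup.card_dvd_of_le hlt.le)
    have hne : b ≠ a := fun h => hlt.ne (Subgroup.eq_of_le_of_card_ge hlt.le (by rw [ha, hb', h]))
    rw [ha] at ih
    have := (Nat.pow_le_pow_iff_right hp.out.one_lt).mp ih
    rw [hb']
    exact Nat.pow_le_pow_right hp.out.pos (by omega)

/-- The class of a group of order `p ^ m`, `m ≥ 2`, is less than `m`. -/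
theorem lowerCentralSeries_eq_bot {m : ℕ} (hm2 : 2 ≤ m) (hm : Nat.card G = p ^ m) :
    (⊤ : Subgroup G).lowerCentralSeries (m - 1) = ⊥ := by
  obtain ⟨k, rfl⟩ := Nat.exists_eq_add_of_le' hm2
  have h := card_lowerCentralSeries_le hm k
  rw [Nat.sub_self, pow_zero] at h
  rw [show k + 2 - 1 = k + 1 by omega, ← Subgroup.card_eq_one]
  exact le_antisymm h Nat.card_pos

theorem not_isMulCommutative_of_maxClass {n : ℕ} (hn : 3 ≤ n)
    (h : (⊤ : Subgroup G).lowerCentralSeries (n - 2) ≠ ⊥) : ¬ IsMulCommutative G := by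
  intro hc
  apply h
  rw [eq_bot_iff]
  refine (Subgroup.lowerCentralSeries_antitone _ (show 1 ≤ n - 2 by omega)).trans ?_
  rw [show (1 : ℕ) = 0 + 1 from rfl, Subgroup.lowerCentralSeries_succ, Subgroup.lowerCentralSeries_zero,
    Subgroup.commutator_le]
  intro u _ v _
  rw [Subgroup.mem_bot, commutatorElement_eq_one_iff_mul_comm]
  exact mul_comm' u v

/-- In a group of maximal class the centre has order `p` and the quotient by it has maximal class. -/
theorem maxClass_center {n : ℕ} (hn : 3 ≤ n) (hG : Nat.card G = p ^ n)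
    (h : (⊤ : Subgroup G).lowerCentralSeries (n - 2) ≠ ⊥) :
    Nat.card (Subgroup.center G) = p ∧ Nat.card (G ⧸ Subgroup.center G) = p ^ (n - 1) ∧
      (⊤ : Subgroup (G ⧸ Subgroup.center G)).lowerCentralSeries (n - 3) ≠ ⊥ := by
  have hP : IsPGroup p G := IsPGroup.of_card hG
  have hq : (⊤ : Subgroup (G ⧸ Subgroup.center G)).lowerCentralSeries (n - 3) ≠ ⊥ := fun hb => by
    apply h
    rw [← Subgroup.map_top_of_surjective _ (QuotientGroup.mk'_surjective (Subgroup.center G)),
      ← Subgroup.map_lowerCentralSeries, Subgroup.map_eq_bot_iff, QuotientGroup.ker_mk'] at hb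
    rw [show n - 2 = n - 3 + 1 by omega, Subgroup.lowerCentralSeries_succ,
      Subgroup.commutator_eq_bot_iff_le_centralizer, Subgroup.coe_top, Subgroup.centralizer_univ]
    exact hb
  obtain ⟨k, hk⟩ := IsPGroup.iff_card.mp (hP.to_quotient (Subgroup.center G))
  have hk2 : 2 ≤ k := by
    have h2 := Cores.le_center_index hP (not_isMulCommutative_of_maxClass hn h)
    rw [Subgroup.index_eq_card, hk] at h2
    exact (Nat.pow_dvd_pow_iff_le_right hp.out.one_lt).mp h2
  have hkn : n - 1 ≤ k := by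
    by_contra hlt
    apply hq
    rw [eq_bot_iff, ← lowerCentralSeries_eq_bot hk2 hk]
    exact Subgroup.lowerCentralSeries_antitone _ (by omega)
  have hz := (Subgroup.center G).card_mul_index
  rw [Subgroup.index_eq_card, hk, hG] at hz
  obtain ⟨c, hc, hc'⟩ := (Nat.dvd_prime_pow hp.out).mp (hG ▸ Subgroup.card_subgroup_dvd_card (Subgroup.center G))
  have hc0 : c ≠ 0 := fun h0 => by
    haveI : Nontrivial G := Finite.one_lt_card_iff_nontrivial.mp (by
      rw [hG]; exact Nat.one_lt_pow (by omega) hp.out.one_lt)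
    haveI := hP.center_nontrivial
    have : 1 < Nat.card (Subgroup.center G) := Finite.one_lt_card
    rw [hc', h0, pow_zero] at this
    exact lt_irrefl 1 this
  rw [hc', ← pow_add] at hz
  have := Nat.pow_right_injective hp.out.two_le hz
  exact ⟨by rw [hc', show c = 1 by omega, pow_one], by rw [hk, show k = n - 1 by omega], hq⟩

omit [Finite G] hp in
/-- A subgroup containing a subgroup of index two and an element outside it is everything. -/
theorem eq_top_of_index_two {A H : Subgroup G} (hA : A.index = 2) (hle : A ≤ H) {b : G} (hb : b ∈ H)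
    (hbA : b ∉ A) : H = ⊤ :=
  (Cores.isCoatom_of_prime_index (hA.symm ▸ Nat.prime_two)).2 H (lt_of_le_of_ne hle fun h => hbA (h ▸ hb))

/-- A `2`-group of maximal class has a cyclic subgroup of index two. -/
theorem exists_cyclic_index_two : ∀ (n : ℕ) {G : Type u} [Group G] [Finite G], 3 ≤ n → Nat.card G = 2 ^ n →
    (⊤ : Subgroup G).lowerCentralSeries (n - 2) ≠ ⊥ → ∃ a : G, (Subgroup.zpowers a).index = 2 := by
  haveI : Fact (Nat.Prime 2) := ⟨Nat.prime_two⟩
  intro n
  induction n with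
  | zero => omega
  | succ n ih =>
  intro G _ _ hn3 hG hmc
  have hna := not_isMulCommutative_of_maxClass hn3 hmc
  have hP : IsPGroup 2 G := IsPGroup.of_card hG
  rcases Nat.eq_or_lt_of_le hn3 with hn | hn
  · obtain ⟨g, hg⟩ : ∃ g : G, g ^ 2 ≠ 1 := by
      by_contra h
      push Not at h
      refine hna ⟨⟨fun u v => ?_⟩⟩
      have h1 := h (u * v)
      rw [sq, mul_eq_one_iff_eq_inv, mul_inv_rev] at h1
      rw [h1, inv_eq_of_mul_eq_one_right (by rw [← sq, h] : v * v = 1),
        inv_eq_of_mul_eq_one_right (by rw [← sq, h] : u * u = 1)]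
    refine ⟨g, ?_⟩
    obtain ⟨j, hj, hj'⟩ := (Nat.dvd_prime_pow Nat.prime_two).mp
      (hG ▸ orderOf_dvd_natCard g : orderOf g ∣ 2 ^ (n + 1))
    have hj3 : j ≠ n + 1 := fun h0 => hna (by
      haveI : IsCyclic G := isCyclic_of_orderOf_eq_card g (by rw [hj', h0, hG])
      exact ⟨⟨(IsCyclic.commGroup (α := G)).mul_comm⟩⟩)
    have hj1 : 2 ≤ j := by
      by_contra h1
      exact hg (orderOf_dvd_iff_pow_eq_one.mp (hj' ▸ (pow_dvd_pow 2 (show j ≤ 1 by omega))))
    have h := (Subgroup.zpowers g).card_mul_index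
    rw [Nat.card_zpowers, hj', hG, show n + 1 = j + 1 by omega, pow_succ] at h
    exact Nat.eq_of_mul_eq_mul_left (pow_pos two_pos j) h
  obtain ⟨hZ, hQcard, hQmc⟩ := maxClass_center hn3 hG hmc
  set Z := Subgroup.center G with hZdef
  obtain ⟨abar, habar⟩ := ih (G := G ⧸ Z) (by omega) (by rw [hQcard]; rfl) (by
    rw [show n - 2 = n + 1 - 3 by omega]; exact hQmc)
  obtain ⟨a, rfl⟩ := QuotientGroup.mk'_surjective Z abar
  set π := QuotientGroup.mk' Z with hπ
  set A := (Subgroup.zpowers (π a)).comap π with hA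
  have hAidx : A.index = 2 := by
    rw [hA, Subgroup.index_comap_of_surjective _ (QuotientGroup.mk'_surjective Z), habar]
  haveI hAn : A.Normal := Subgroup.normal_of_index_eq_two hAidx
  have hAmem : ∀ y ∈ A, ∃ i : ℤ, ∃ ζ ∈ Z, y = a ^ i * ζ := by
    intro y hy
    obtain ⟨i, hi⟩ := Subgroup.mem_comap.mp hy
    refine ⟨i, (a ^ i)⁻¹ * y, QuotientGroup.eq.mp ?_, (mul_inv_cancel_left _ y).symm⟩
    show π (a ^ i) = π y
    rw [map_zpow]; exact hi
  have haA : a ∈ A := Subgroup.mem_comap.mpr (Subgroup.mem_zpowers _)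
  by_cases hza : Z ≤ Subgroup.zpowers a
  · refine ⟨a, ?_⟩
    rw [← hAidx]
    congr 1
    refine le_antisymm (Subgroup.zpowers_le.mpr haA) fun y hy => ?_
    obtain ⟨i, ζ, hζ, rfl⟩ := hAmem y hy
    exact mul_mem (zpow_mem (Subgroup.mem_zpowers a) i) (hza hζ)
  exfalso
  have hζ2 : ∀ ζ ∈ Z, ζ ^ 2 = 1 := fun ζ hζ => by
    have := orderOf_dvd_natCard (⟨ζ, hζ⟩ : Z)
    rw [Subgroup.orderOf_mk, hZ] at this
    exact orderOf_dvd_iff_pow_eq_one.mp this
  have hcz : ∀ ζ ∈ Z, ∀ g : G, Commute g ζ := fun ζ hζ g => Subgroup.mem_center_iff.mp hζ g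
  -- the squares of `A`
  set B := Subgroup.zpowers (a ^ (2 : ℤ)) with hB
  have hsq : ∀ i : ℤ, ∀ ζ ∈ Z, (a ^ i * ζ) ^ (2 : ℤ) ∈ B := fun i ζ hζ => by
    rw [(hcz ζ hζ (a ^ i)).mul_zpow, zpow_two ζ, ← sq, hζ2 ζ hζ, mul_one, ← zpow_mul, mul_comm, zpow_mul]
    exact zpow_mem (Subgroup.mem_zpowers _) i
  haveI hBn : B.Normal := ⟨fun y hy g => by
    obtain ⟨j, rfl⟩ := hy
    obtain ⟨i, ζ, hζ, hi⟩ := hAmem _ (hAn.conj_mem a haA g)
    show g * (a ^ (2 : ℤ)) ^ j * g⁻¹ ∈ B
    rw [← conj_zpow, ← conj_zpow, hi]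
    exact zpow_mem (hsq i ζ hζ) j⟩
  set ρ := QuotientGroup.mk' B with hρ
  have hρa2 : ρ a ^ (2 : ℤ) = 1 := by
    rw [← map_zpow]; exact (QuotientGroup.eq_one_iff _).mpr (Subgroup.mem_zpowers _)
  -- `G / B` has class at most two
  have hcl : ∀ g : G, ⁅g, a⁆ ∈ B ⊔ Z := by
    intro g
    obtain ⟨i, ζ, hζ, hi⟩ := hAmem _ (hAn.conj_mem a haA g)
    have e : ⁅g, a⁆ = a ^ (i - 1) * ζ := by
      rw [commutatorElement_def, hi, mul_assoc, ← (hcz ζ hζ a⁻¹).eq, ← mul_assoc, ← zpow_neg_one, ← zpow_add,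
        ← sub_eq_add_neg]
    have hodd : Odd i := by
      by_contra hev
      obtain ⟨j, rfl⟩ := Int.not_odd_iff_even.mp hev
      have h2 : (g * a * g⁻¹) ∈ B ⊔ Z := by
        rw [hi]
        exact mul_mem (Subgroup.mem_sup_left ⟨j, by show (a ^ (2 : ℤ)) ^ j = a ^ (j + j); rw [← zpow_mul]; ring_nf⟩) (Subgroup.mem_sup_right hζ)
      haveI : (B ⊔ Z).Normal := Subgroup.sup_normal B Z
      have h3 : a ∈ B ⊔ Z := by simpa [mul_assoc] using (inferInstance : (B ⊔ Z).Normal).conj_mem _ h2 g⁻¹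
      obtain ⟨u, ⟨k, rfl⟩, v, hv, huv⟩ := Subgroup.mem_sup_of_normal_right.mp h3
      have huv' : (a ^ (2 : ℤ)) ^ k * v = a := huv
      have h4 : π a = π a ^ (2 * k) := by
        conv_lhs => rw [← huv']
        rw [map_mul, map_zpow, map_zpow, ← zpow_mul, show π v = 1 from (QuotientGroup.eq_one_iff v).mpr hv, mul_one]
      have h5 : π a ^ (2 * k - 1) = 1 := by rw [zpow_sub, ← h4, zpow_one, mul_inv_cancel]
      have h6 := orderOf_dvd_iff_zpow_eq_one.mpr h5
      have hord : orderOf (π a) = 2 ^ (n - 1) := by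
        have h := (Subgroup.zpowers (π a)).card_mul_index
        rw [habar, Nat.card_zpowers, hQcard, show n + 1 - 1 = n - 1 + 1 by omega, pow_succ] at h
        exact Nat.eq_of_mul_eq_mul_right two_pos h
      rw [hord] at h6
      have h7 : (2 : ℤ) ∣ 2 * k - 1 := dvd_trans (by
        exact_mod_cast dvd_pow_self 2 (show n - 1 ≠ 0 by omega)) h6
      omega
    rw [e]
    obtain ⟨j, hj⟩ := hodd
    exact mul_mem (Subgroup.mem_sup_left ⟨j, by show (a ^ (2 : ℤ)) ^ j = _; rw [← zpow_mul, hj, add_sub_cancel_right]⟩)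
      (Subgroup.mem_sup_right hζ)
  haveI : (B ⊔ Z).Normal := Subgroup.sup_normal B Z
  have hD : commutator G ≤ B ⊔ Z := by
    refine (inferInstance : (B ⊔ Z).Normal).quotient_commutative_iff_commutator_le.mp ?_
    set σ := QuotientGroup.mk' (B ⊔ Z)
    have hσa : σ a ∈ Subgroup.center _ := by
      rw [Subgroup.mem_center_iff]
      intro q
      obtain ⟨g, rfl⟩ := QuotientGroup.mk'_surjective (B ⊔ Z) q
      rw [← commutatorElement_eq_one_iff_mul_comm, ← map_commutatorElement]
      exact (QuotientGroup.eq_one_iff _).mpr (hcl g)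
    have hAc : A.map σ ≤ Subgroup.center _ := by
      rintro _ ⟨y, hy, rfl⟩
      obtain ⟨i, ζ, hζ, rfl⟩ := hAmem y hy
      rw [map_mul, map_zpow, show σ ζ = 1 from (QuotientGroup.eq_one_iff ζ).mpr (Subgroup.mem_sup_right hζ), mul_one]
      exact zpow_mem hσa i
    have hAsup : B ⊔ Z ≤ A := sup_le (Subgroup.zpowers_le.mpr (zpow_mem haA _)) fun ζ hζ =>
      Subgroup.mem_comap.mpr (by rw [show π ζ = 1 from (QuotientGroup.eq_one_iff ζ).mpr hζ]; exact one_mem _)
    haveI : IsCyclic ((G ⧸ (B ⊔ Z)) ⧸ A.map σ) :=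
      (QuotientGroup.quotientQuotientEquivQuotient (B ⊔ Z) A hAsup).isCyclic.mpr
        (isCyclic_of_prime_card (p := 2) (by rw [← Subgroup.index_eq_card, hAidx]))
    exact ⟨⟨commutative_of_cyclic_center_quotient (QuotientGroup.mk' (A.map σ))
      (by rw [QuotientGroup.ker_mk']; exact hAc)⟩⟩
  -- the last term of the lower central series lies in `B`
  have hlast : (⊤ : Subgroup G).lowerCentralSeries 2 ≤ B := by
    rw [show (2 : ℕ) = 1 + 1 from rfl, Subgroup.lowerCentralSeries_succ, show (1 : ℕ) = 0 + 1 from rfl,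
      Subgroup.lowerCentralSeries_succ, Subgroup.lowerCentralSeries_zero, ← commutator_def, Subgroup.commutator_le]
    intro d hd g _
    obtain ⟨u, hu, v, hv, rfl⟩ := Subgroup.mem_sup_of_normal_right.mp (hD hd)
    rw [← QuotientGroup.eq_one_iff, ← QuotientGroup.mk'_apply, map_commutatorElement,
      commutatorElement_eq_one_iff_mul_comm, map_mul,
      show QuotientGroup.mk' B u = 1 from (QuotientGroup.eq_one_iff u).mpr hu, one_mul, ← map_mul, ← map_mul,
      (hcz v hv g).eq]
  have hZB : ¬ Z ≤ B := fun h => hza (h.trans (Subgroup.zpowers_le.mpr (zpow_mem (Subgroup.mem_zpowers a) _)))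
  set L := (⊤ : Subgroup G).lowerCentralSeries (n + 1 - 2) with hL
  have hLc : L ≤ Z := by
    have h0 := lowerCentralSeries_eq_bot (show 2 ≤ n + 1 by omega) hG
    rw [show n + 1 - 1 = n + 1 - 2 + 1 by omega, Subgroup.lowerCentralSeries_succ, ← hL,
      Subgroup.commutator_eq_bot_iff_le_centralizer, Subgroup.coe_top, Subgroup.centralizer_univ] at h0
    exact h0
  have hLB : L ≤ B := (Subgroup.lowerCentralSeries_antitone _ (show 2 ≤ n + 1 - 2 by omega)).trans hlast
  apply hZB
  rwa [← Subgroup.eq_of_le_of_card_ge hLc (by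
    rw [hZ]
    haveI := (Subgroup.nontrivial_iff_ne_bot L).mpr hmc
    exact Finite.one_lt_card)]

/-- Outside the cyclic maximal subgroup of a `2`-group of maximal class centralisers have order four. -/
theorem card_centralizer_of_maxClass {n : ℕ} (hn : 3 ≤ n) (hG : Nat.card G = 2 ^ n)
    (hmc : (⊤ : Subgroup G).lowerCentralSeries (n - 2) ≠ ⊥) {a : G} (ha : (Subgroup.zpowers a).index = 2)
    {b : G} (hb : b ∉ Subgroup.zpowers a) :
    Subgroup.zpowers a ⊓ Subgroup.centralizer ({b} : Set G) = Subgroup.center G ∧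
      Nat.card (Subgroup.centralizer ({b} : Set G)) = 4 := by
  haveI : Fact (Nat.Prime 2) := ⟨Nat.prime_two⟩
  obtain ⟨hZ, -, -⟩ := maxClass_center hn hG hmc
  set A := Subgroup.zpowers a with hA
  haveI : A.Normal := Subgroup.normal_of_index_eq_two ha
  have hna := not_isMulCommutative_of_maxClass hn hmc
  have haC : ∀ y ∈ A, Commute a y := by
    rintro _ ⟨i, rfl⟩
    exact (Commute.refl a).zpow_right i
  have hZA : Subgroup.center G ≤ A := fun z hz => by
    by_contra hzA
    refine hna ⟨⟨fun u v => ?_⟩⟩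
    have htop : Subgroup.centralizer ({a} : Set G) = ⊤ := eq_top_of_index_two ha
      (fun y hy => Subgroup.mem_centralizer_singleton_iff.mpr (haC y hy).symm.eq)
      (Subgroup.mem_centralizer_singleton_iff.mpr (Subgroup.mem_center_iff.mp hz a).symm) hzA
    have hac : a ∈ Subgroup.center G := Subgroup.mem_center_iff.mpr fun g =>
      Subgroup.mem_centralizer_singleton_iff.mp (htop ▸ Subgroup.mem_top g)
    have htop2 : Subgroup.center G = ⊤ := eq_top_of_index_two ha (Subgroup.zpowers_le.mpr hac) hz hzA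
    exact Subgroup.mem_center_iff.mp (htop2 ▸ Subgroup.mem_top v) u
  have hinf : A ⊓ Subgroup.centralizer ({b} : Set G) = Subgroup.center G := by
    refine le_antisymm (fun y hy => ?_) fun z hz => Subgroup.mem_inf.mpr
      ⟨hZA hz, Subgroup.mem_centralizer_singleton_iff.mpr (Subgroup.mem_center_iff.mp hz b).symm⟩
    obtain ⟨hyA, hyb⟩ := Subgroup.mem_inf.mp hy
    have htop : Subgroup.centralizer ({y} : Set G) = ⊤ := eq_top_of_index_two ha
      (fun w hw => by
        obtain ⟨i, rfl⟩ := hw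
        exact Subgroup.mem_centralizer_singleton_iff.mpr ((haC y hyA).zpow_left i).eq)
      (Subgroup.mem_centralizer_singleton_iff.mpr (Subgroup.mem_centralizer_singleton_iff.mp hyb).symm) hb
    exact Subgroup.mem_center_iff.mpr fun g => Subgroup.mem_centralizer_singleton_iff.mp (htop ▸ Subgroup.mem_top g)
  refine ⟨hinf, ?_⟩
  have h := Cores.card_map_mul_card_inf_ker (QuotientGroup.mk' A) (Subgroup.centralizer ({b} : Set G))
  rw [QuotientGroup.ker_mk', inf_comm, hinf, hZ] at h
  have hcq : Nat.card (G ⧸ A) = 2 := by rw [← Subgroup.index_eq_card, ha]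
  haveI : Fact (Nat.card (G ⧸ A)).Prime := ⟨hcq.symm ▸ Nat.prime_two⟩
  have himg : (Subgroup.centralizer ({b} : Set G)).map (QuotientGroup.mk' A) = ⊤ :=
    (Subgroup.eq_bot_or_eq_top_of_prime_card _).resolve_left fun hb' => hb (by
      have hm : QuotientGroup.mk' A b ∈ (Subgroup.centralizer ({b} : Set G)).map (QuotientGroup.mk' A) :=
        ⟨b, Subgroup.mem_centralizer_singleton_iff.mpr rfl, rfl⟩
      rw [hb', Subgroup.mem_bot] at hm
      exact (QuotientGroup.eq_one_iff b).mp hm)
  rw [himg, Subgroup.card_top, hcq] at h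
  omega

/-- In a `2`-group of maximal class non-cyclic subgroups contain their centralisers. -/
theorem centralizer_le_of_maxClass {n : ℕ} (hn : 3 ≤ n) (hG : Nat.card G = 2 ^ n)
    (hmc : (⊤ : Subgroup G).lowerCentralSeries (n - 2) ≠ ⊥) (H : Subgroup G) (hH : ¬ IsCyclic H) :
    Subgroup.centralizer (H : Set G) ≤ H := by
  haveI : Fact (Nat.Prime 2) := ⟨Nat.prime_two⟩
  obtain ⟨hZ, -, -⟩ := maxClass_center hn hG hmc
  obtain ⟨a, ha⟩ := exists_cyclic_index_two n hn hG hmc
  obtain ⟨b, hbH, hb⟩ : ∃ b ∈ H, b ∉ Subgroup.zpowers a := by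
    by_contra h
    push Not at h
    exact hH (Subgroup.isCyclic_of_le (h : H ≤ Subgroup.zpowers a))
  obtain ⟨hinf, hC4⟩ := card_centralizer_of_maxClass hn hG hmc ha hb
  set C := Subgroup.centralizer ({b} : Set G) with hC
  have hbC : b ∈ C := Subgroup.mem_centralizer_singleton_iff.mpr rfl
  have hle : Subgroup.centralizer (H : Set G) ≤ C := fun g hg =>
    Subgroup.mem_centralizer_singleton_iff.mpr (Subgroup.mem_centralizer_iff.mp hg b hbH).symm
  -- the centre lies in `H`
  have hZH : Subgroup.center G ≤ H := by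
    haveI : (Subgroup.zpowers a).Normal := Subgroup.normal_of_index_eq_two ha
    have hne : Subgroup.zpowers a ⊓ H ≠ ⊥ := fun h => hH (by
      have h1 := Cores.card_map_mul_card_inf_ker (QuotientGroup.mk' (Subgroup.zpowers a)) H
      rw [QuotientGroup.ker_mk', inf_comm, h, Subgroup.card_bot, mul_one] at h1
      have h2 : Nat.card H ≤ 2 := by
        rw [← h1]
        refine (Subgroup.card_le_card_group _).trans_eq ?_
        rw [← Subgroup.index_eq_card, ha]
      rcases Nat.lt_or_eq_of_le h2 with h3 | h3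
      · haveI := (Nat.card_eq_one_iff_unique.mp (show Nat.card H = 1 by
          have := Nat.card_pos (α := H); omega)).1
        infer_instance
      · exact isCyclic_of_prime_card h3)
    obtain ⟨z, hz, hzo, hzc⟩ : ∃ z ∈ Subgroup.zpowers a ⊓ H, orderOf z = 2 ∧ z ∈ Subgroup.center G := by
      haveI := (Subgroup.nontrivial_iff_ne_bot _).mpr hne
      obtain ⟨k, hk⟩ := IsPGroup.iff_card.mp ((IsPGroup.of_card hG).to_subgroup (Subgroup.zpowers a ⊓ H))
      have h1 : 1 < Nat.card ↥(Subgroup.zpowers a ⊓ H) := Finite.one_lt_card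
      have hk0 : k ≠ 0 := fun h0 => by rw [hk, h0, pow_zero] at h1; exact lt_irrefl 1 h1
      obtain ⟨z, hz⟩ := exists_prime_orderOf_dvd_card' 2 (hk ▸ dvd_pow_self 2 hk0)
      refine ⟨z.1, z.2, by rw [Subgroup.orderOf_coe, hz], ?_⟩
      -- the unique involution of the cyclic group
      have hzA := (Subgroup.mem_inf.mp z.2).1
      have hZA : Subgroup.center G ≤ Subgroup.zpowers a := hinf ▸ inf_le_left
      obtain ⟨w, hw, hwo, hwc⟩ := PLocal.exists_central_prime_mem (IsPGroup.of_card hG) (N := Subgroup.center G)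
        (fun h0 => by rw [h0, Subgroup.card_bot] at hZ; omega)
      have heq : (z : G) = w := by
        by_contra hne'
        have hcy : IsCyclic (Subgroup.zpowers a) := inferInstance
        classical
        haveI := Fintype.ofFinite (Subgroup.zpowers a)
        have h3 := IsCyclic.card_pow_eq_one_le (α := Subgroup.zpowers a) (n := 2) two_pos
        have h4 : ({1, ⟨z, hzA⟩, ⟨w, hZA hw⟩} : Finset (Subgroup.zpowers a)) ⊆
            Finset.univ.filter fun y => y ^ 2 = 1 := by
          intro y hy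
          simp only [Finset.mem_insert, Finset.mem_singleton] at hy
          refine Finset.mem_filter.mpr ⟨Finset.mem_univ _, ?_⟩
          rcases hy with rfl | rfl | rfl
          · exact one_pow 2
          · exact Subtype.ext (orderOf_dvd_iff_pow_eq_one.mp (by show orderOf (z : G) ∣ 2; rw [Subgroup.orderOf_coe, hz]))
          · exact Subtype.ext (orderOf_dvd_iff_pow_eq_one.mp hwo.dvd)
        have h5 := (Finset.card_le_card h4).trans h3
        rw [Finset.card_insert_of_notMem, Finset.card_insert_of_notMem, Finset.card_singleton] at h5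
        · omega
        · simp only [Finset.mem_singleton, Subtype.mk.injEq]; exact hne'
        · simp only [Finset.mem_insert, Finset.mem_singleton, not_or]
          refine ⟨fun h6 => ?_, fun h6 => ?_⟩
          · have : z = 1 := Subtype.ext (congrArg Subtype.val h6).symm
            rw [this, orderOf_one] at hz
            omega
          · have h7 : (1 : G) = w := congrArg Subtype.val h6
            rw [← h7, orderOf_one] at hwo
            omega
      exact heq ▸ hwc
    have := Subgroup.eq_of_le_of_card_ge (Subgroup.zpowers_le.mpr hzc)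
      (by rw [hZ, Nat.card_zpowers, hzo])
    exact this ▸ Subgroup.zpowers_le.mpr (Subgroup.mem_inf.mp hz).2
  have hCle : C ≤ H := by
    have hlt : Subgroup.center G < H ⊓ C := by
      refine lt_of_le_of_ne (le_inf hZH (hinf ▸ inf_le_right)) fun h => hb ?_
      exact (hinf ▸ inf_le_left : Subgroup.center G ≤ Subgroup.zpowers a) (h ▸ Subgroup.mem_inf.mpr ⟨hbH, hbC⟩)
    have hcard : 2 < Nat.card ↥(H ⊓ C) := by
      have h2 : Nat.card (Subgroup.center G) < Nat.card ↥(H ⊓ C) :=
        Set.Finite.card_lt_card (Set.toFinite _) (SetLike.coe_ssubset_coe.mpr hlt)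
      rwa [hZ] at h2
    have hd := Subgroup.card_dvd_of_le (inf_le_right : H ⊓ C ≤ C)
    rw [hC4] at hd
    have heq : H ⊓ C = C := Subgroup.eq_of_le_of_card_ge inf_le_right (by
      rw [hC4]
      have h4 := Nat.le_of_dvd (by norm_num) hd
      interval_cases h6 : Nat.card ↥(H ⊓ C)
      · norm_num at hd
      · rfl)
    exact heq ▸ inf_le_left
  exact hle.trans hCle

set_option maxHeartbeats 1000000 in
/-- A non-abelian `2`-group in which non-cyclic subgroups contain their centralisers has maximal class. -/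
theorem maxClass_of_centralizer_le {n : ℕ} (hG : Nat.card G = 2 ^ n) (hna : ¬ IsMulCommutative G)
    (hh : ∀ H : Subgroup G, ¬ IsCyclic H → Subgroup.centralizer (H : Set G) ≤ H) :
    (⊤ : Subgroup G).lowerCentralSeries (n - 2) ≠ ⊥ := by
  haveI : Fact (Nat.Prime 2) := ⟨Nat.prime_two⟩
  have hP : IsPGroup 2 G := IsPGroup.of_card hG
  obtain ⟨A, hAn, hAc, hCA⟩ := Classification.exists_normal_abelian_selfCentralizing hP
  haveI := hAn
  haveI := hAc
  have hcomm : ∀ x ∈ A, ∀ y ∈ A, x * y = y * x := fun x hx y hy =>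
    congrArg Subtype.val (mul_comm' (⟨x, hx⟩ : A) ⟨y, hy⟩)
  by_cases hAcyc : IsCyclic A
  swap
  · -- a four-group inside `A`
    obtain ⟨E, hEA, hE4, hE2⟩ : ∃ E : Subgroup G, E ≤ A ∧ 4 ≤ Nat.card E ∧ ∀ e ∈ E, e ^ 2 = 1 := by
      let E : Subgroup G :=
        { carrier := {x | x ∈ A ∧ x ^ 2 = 1}
          one_mem' := ⟨one_mem _, one_pow _⟩
          mul_mem' := fun {u v} hu hv => ⟨A.mul_mem hu.1 hv.1, by
            rw [(show Commute u v from hcomm u hu.1 v hv.1).mul_pow, hu.2, hv.2, one_mul]⟩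
          inv_mem' := fun {u} hu => ⟨A.inv_mem hu.1, by rw [inv_pow, hu.2, inv_one]⟩ }
      refine ⟨E, fun x hx => hx.1, ?_, fun e he => he.2⟩
      by_contra hlt
      apply hAcyc
      refine Frobenius.isCyclic_of_commute_of_prime_roots mul_comm' fun q hq => ?_
      rcases eq_or_ne q 2 with rfl | hq2
      · obtain ⟨k, hk⟩ := IsPGroup.iff_card.mp (hP.to_subgroup E)
        have hkle : Nat.card E ≤ 2 := by
          rw [hk] at hlt ⊢
          rcases k with _ | _ | k
          · norm_num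
          · norm_num
          · exact absurd (Nat.pow_le_pow_right two_pos (show 2 ≤ k + 2 by omega)) hlt
        refine le_trans (Nat.card_le_card_of_injective
          (fun x : {x : A // x ^ 2 = 1} => (⟨x.1.1, x.1.2, congrArg Subtype.val x.2⟩ : E)) ?_) hkle
        intro x y h
        exact Subtype.ext (Subtype.ext (congrArg Subtype.val h :))
      · refine le_trans (le_of_eq (Nat.card_eq_one_iff_unique.mpr ⟨⟨fun x y => ?_⟩, ⟨⟨1, one_pow q⟩⟩⟩)) hq.one_le
        have key : ∀ w : {x : A // x ^ q = 1}, (w : A) = 1 := fun w => by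
          obtain ⟨k, hk⟩ := (hP.to_subgroup A) w.1
          refine orderOf_eq_one_iff.mp (Nat.dvd_one.mp ?_)
          have hcop : Nat.Coprime q (2 ^ k) := Nat.Coprime.pow_right k ((Nat.coprime_primes hq Nat.prime_two).mpr hq2)
          rw [← hcop.gcd_eq_one]
          exact Nat.dvd_gcd (orderOf_dvd_of_pow_eq_one w.2) (orderOf_dvd_of_pow_eq_one hk)
        exact Subtype.ext ((key x).trans (key y).symm)
    have hEnc : ¬ IsCyclic E := fun hc => by
      obtain ⟨g, hg⟩ := hc.exists_generator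
      have h1 : Nat.card E = orderOf g := (orderOf_eq_card_of_forall_mem_zpowers hg).symm
      have h2 : orderOf g ≤ 2 := Nat.le_of_dvd two_pos (orderOf_dvd_of_pow_eq_one (Subtype.ext (hE2 g g.2)))
      omega
    have hAE : A ≤ E := fun y hy => hh E hEnc (Subgroup.mem_centralizer_iff.mpr fun e he => hcomm e (hEA he) y hy)
    have hEA' : E = A := le_antisymm hEA hAE
    -- the action on the involutions of `A`
    obtain ⟨k, hk⟩ := IsPGroup.iff_card.mp (hP.to_subgroup A)
    have hk2 : 2 ≤ k := (Nat.pow_le_pow_iff_right (show 1 < 2 by norm_num)).mp (hk ▸ (hEA' ▸ hE4))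
    have hkeq : k = 2 := by
      by_contra hne
      -- a proper four-subgroup would contradict the hypothesis
      obtain ⟨F, hF⟩ := Sylow.exists_subgroup_card_pow_prime (G := A) 2
        (show 2 ^ 2 ∣ Nat.card A from hk ▸ pow_dvd_pow 2 hk2)
      have hF4 : Nat.card (F.map A.subtype) = 4 := by
        rw [← Nat.card_congr (F.equivMapOfInjective _ A.subtype_injective).toEquiv, hF]; rfl
      have hFnc : ¬ IsCyclic (F.map A.subtype) := fun hc => by
        obtain ⟨g, hg⟩ := hc.exists_generator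
        have h1 := orderOf_eq_card_of_forall_mem_zpowers hg
        have h2 : orderOf g ≤ 2 := Nat.le_of_dvd two_pos (orderOf_dvd_of_pow_eq_one (Subtype.ext
          (hE2 g (hAE (Subgroup.map_subtype_le F g.2)))))
        omega
      have h3 : A ≤ F.map A.subtype := fun y hy => hh _ hFnc (Subgroup.mem_centralizer_iff.mpr fun e he =>
        hcomm e (Subgroup.map_subtype_le F he) y hy)
      have h4 := Subgroup.card_le_of_le h3
      rw [hk, hF4] at h4
      have : 2 ^ 3 ≤ 2 ^ k := Nat.pow_le_pow_right two_pos (by omega)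
      omega
    subst hkeq
    have hidx : A.index ≤ 2 := by
      have h := OddLocal.index_centralizer_le hP A hk
      rwa [hCA] at h
    have hn3 : n ≤ 3 := by
      have h := A.card_mul_index
      rw [hk, hG] at h
      have : 2 ^ n ≤ 2 ^ 3 := by rw [← h]; exact Nat.mul_le_mul_left (2 ^ 2) hidx
      exact (Nat.pow_le_pow_iff_right (show 1 < 2 by norm_num)).mp this
    intro hbot
    apply hna
    have h1 : (⊤ : Subgroup G).lowerCentralSeries 1 = ⊥ :=
      le_bot_iff.mp (hbot ▸ Subgroup.lowerCentralSeries_antitone _ (show n - 2 ≤ 1 by omega))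
    rw [show (1 : ℕ) = 0 + 1 from rfl, Subgroup.lowerCentralSeries_succ, Subgroup.lowerCentralSeries_zero] at h1
    exact ⟨⟨fun u v => commutatorElement_eq_one_iff_mul_comm.mp (Subgroup.mem_bot.mp
      (h1 ▸ Subgroup.commutator_mem_commutator (Subgroup.mem_top u) (Subgroup.mem_top v)))⟩⟩
  -- `A` is cyclic
  obtain ⟨a, ha⟩ := isCyclic_iff_exists_zpowers_eq_top.mp hAcyc
  have hgen : ∀ y ∈ A, ∃ i : ℤ, (a : G) ^ i = y := fun y hy => by
    obtain ⟨i, hi⟩ : (⟨y, hy⟩ : A) ∈ Subgroup.zpowers a := ha ▸ Subgroup.mem_top _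
    exact ⟨i, by rw [← Subgroup.coe_zpow]; exact congrArg Subtype.val hi⟩
  obtain ⟨m, hm⟩ := hP.exists_orderOf_eq_pow (a : G)
  have hm2 : 1 ≤ m := by
    by_contra h
    apply hna
    have ha1 : (a : G) = 1 := orderOf_eq_one_iff.mp (by rw [hm, show m = 0 by omega, pow_zero])
    have hAbot : A = ⊥ := eq_bot_iff.mpr fun y hy => by
      obtain ⟨i, rfl⟩ := hgen y hy
      rw [ha1, one_zpow]; exact one_mem _
    refine ⟨⟨fun u v => ?_⟩⟩
    have hu : u ∈ A := hCA ▸ Subgroup.mem_centralizer_iff.mpr fun y hy => by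
      rw [hAbot] at hy; rw [Subgroup.mem_bot.mp hy, one_mul, mul_one]
    rw [hAbot, Subgroup.mem_bot] at hu
    rw [hu, one_mul, mul_one]
  -- the action of an element on the generator
  have hact : ∀ g : G, ∃ k : ℤ, g * a * g⁻¹ = (a : G) ^ k := fun g => by
    obtain ⟨k, hk⟩ := hgen _ (hAn.conj_mem a a.2 g)
    exact ⟨k, hk.symm⟩
  have hcent : ∀ g : G, Commute g (a : G) → g ∈ A := fun g hg => hCA ▸ Subgroup.mem_centralizer_iff.mpr fun y hy => by
    obtain ⟨i, rfl⟩ := hgen y hy
    exact (hg.zpow_right i).eq.symm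
  -- an element squaring into `A` does not act as `1` modulo `4`
  have hkey : ∀ x : G, x ∉ A → x ^ 2 ∈ A → ∀ k : ℤ, x * a * x⁻¹ = (a : G) ^ k → ¬ (4 : ℤ) ∣ k - 1 := by
    intro x hx hx2 k hk h4
    obtain ⟨j, hj⟩ := hgen _ hx2
    have hconj : ∀ i : ℤ, x * (a : G) ^ i * x⁻¹ = (a : G) ^ (k * i) := fun i => by
      rw [← conj_zpow, hk, zpow_mul]
    have hm3 : 2 ≤ m := by
      by_contra h
      refine hx (hcent x ?_)
      obtain ⟨q, hq⟩ := h4
      show x * a = a * x
      have h1 : (a : G) ^ (k - 1) = 1 := orderOf_dvd_iff_zpow_eq_one.mp (by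
        rw [hm, show m = 1 by omega, hq]; exact ⟨2 * q, by push_cast; ring⟩)
      rw [zpow_sub, zpow_one, mul_inv_eq_one] at h1
      calc x * a = x * a * x⁻¹ * x := by group
        _ = a * x := by rw [hk, h1]
    have hjx : (a : G) ^ (k * j) = (a : G) ^ j := by
      rw [← hconj, hj, sq]; group
    obtain ⟨j', rfl⟩ : (2 : ℤ) ∣ j := by
      by_contra hodd
      refine hx (hcent x ?_)
      have h1 : (a : G) ^ ((k - 1) * j) = 1 := by rw [sub_mul, one_mul, zpow_sub, hjx, mul_inv_cancel]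
      have h2 := orderOf_dvd_iff_zpow_eq_one.mpr h1
      rw [hm] at h2
      have h3 : ((2 ^ m : ℕ) : ℤ) ∣ k - 1 := by
        refine Int.dvd_of_dvd_mul_left_of_gcd_one h2 ?_
        rw [Int.gcd, Int.natAbs_natCast]
        refine Nat.Coprime.pow_left m (Nat.prime_two.coprime_iff_not_dvd.mpr fun h => hodd ?_)
        exact Int.natCast_dvd.mpr h
      have h4' : (a : G) ^ (k - 1) = 1 := orderOf_dvd_iff_zpow_eq_one.mp (hm ▸ h3)
      rw [zpow_sub, zpow_one, mul_inv_eq_one] at h4'
      show x * a = a * x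
      calc x * a = x * a * x⁻¹ * x := by group
        _ = a * x := by rw [hk, h4']
    obtain ⟨q, hq⟩ := h4
    -- `k + 1 = 2 * u` with `u` odd, invertible modulo `2 ^ m`
    obtain ⟨v, hv⟩ : ∃ v : ℤ, ((2 ^ m : ℕ) : ℤ) ∣ (2 * q + 1) * v + j' := by
      have hcop : IsCoprime (2 * q + 1) ((2 ^ m : ℕ) : ℤ) := by
        push_cast
        exact (show IsCoprime (2 * q + 1) (2 : ℤ) from ⟨1, -q, by ring⟩).pow_right
      obtain ⟨r, s, hrs⟩ := hcop
      exact ⟨-(r * j'), ⟨s * j', by linear_combination (-j') * hrs⟩⟩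
    set y := x * (a : G) ^ v with hy
    have hy2 : y ^ 2 = 1 := by
      have e : y ^ 2 = x * (a : G) ^ v * x⁻¹ * x ^ 2 * (a : G) ^ v := by rw [hy, sq, sq]; group
      rw [e, hconj, ← hj, ← zpow_add, ← zpow_add]
      refine orderOf_dvd_iff_zpow_eq_one.mp (hm ▸ ?_)
      obtain ⟨w, hw⟩ := hv
      exact ⟨2 * w, by linear_combination 2 * hw + v * hq⟩
    have hyA : y ∉ A := fun h => hx (by simpa [hy] using A.mul_mem h (A.inv_mem (A.zpow_mem a.2 v)))
    set z := (a : G) ^ (2 ^ (m - 1) : ℕ) with hz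
    have hzo : orderOf z = 2 := by
      rw [hz, orderOf_pow' _ (pow_ne_zero _ two_ne_zero), hm, Nat.gcd_eq_right (pow_dvd_pow 2 (by omega)),
        Nat.pow_div (by omega) two_pos, show m - (m - 1) = 1 by omega, pow_one]
    have hyz : Commute y z := by
      have h1 : y * z * y⁻¹ = z := by
        rw [hy, hz, ← zpow_natCast,
          show x * (a : G) ^ v * (a : G) ^ ((2 ^ (m - 1) : ℕ) : ℤ) * (x * (a : G) ^ v)⁻¹ =
            x * (a : G) ^ ((2 ^ (m - 1) : ℕ) : ℤ) * x⁻¹ by group, hconj, ← mul_inv_eq_one, ← zpow_neg, ← zpow_add]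
        refine orderOf_dvd_iff_zpow_eq_one.mp (hm ▸ ⟨2 * q, ?_⟩)
        have : ((2 ^ m : ℕ) : ℤ) = 2 * ((2 ^ (m - 1) : ℕ) : ℤ) := by
          rw [show (2 : ℤ) = ((2 : ℕ) : ℤ) from rfl, ← Nat.cast_mul, ← pow_succ', show m - 1 + 1 = m by omega]
        rw [this]
        linear_combination ((2 ^ (m - 1) : ℕ) : ℤ) * hq
      show y * z = z * y
      calc y * z = y * z * y⁻¹ * y := by group
        _ = z * y := by rw [h1]
    set E := Subgroup.closure ({z, y} : Set G) with hE
    have hEc : IsMulCommutative E := Subgroup.isMulCommutative_closure (by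
      rintro u (rfl | rfl) w (rfl | rfl)
      · rfl
      · exact hyz.eq.symm
      · exact hyz.eq
      · rfl)
    have hzE : z ∈ E := Subgroup.subset_closure (Set.mem_insert _ _)
    have hyE : y ∈ E := Subgroup.subset_closure (Set.mem_insert_of_mem _ rfl)
    have hE2' : ∀ e ∈ E, e ^ 2 = 1 := by
      let K : Subgroup E :=
        { carrier := {e | (e : G) ^ 2 = 1}
          one_mem' := one_pow 2
          mul_mem' := fun {u w} hu hw => by
            show ((u : G) * w) ^ 2 = 1
            rw [(show Commute (u : G) w from congrArg Subtype.val (hEc.is_comm.comm u w)).mul_pow, hu, hw, one_mul]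
          inv_mem' := fun {u} hu => by
            show ((u : G)⁻¹) ^ 2 = 1
            rw [inv_pow, hu, inv_one] }
      intro e he
      have hle : E ≤ K.map E.subtype := by
        refine (Subgroup.closure_le _).mpr ?_
        rintro w (rfl | rfl)
        · exact ⟨⟨_, hzE⟩, orderOf_dvd_iff_pow_eq_one.mp hzo.dvd, rfl⟩
        · exact ⟨⟨_, hyE⟩, hy2, rfl⟩
      obtain ⟨w, hw, rfl⟩ := hle he
      exact hw
    have hEnc : ¬ IsCyclic E := fun hc => by
      obtain ⟨g, hg⟩ := hc.exists_generator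
      have h1 : Nat.card E = orderOf g := (orderOf_eq_card_of_forall_mem_zpowers hg).symm
      have h2 : orderOf g ≤ 2 := Nat.le_of_dvd two_pos (orderOf_dvd_of_pow_eq_one (Subtype.ext (hE2' g g.2)))
      have hzy : (⟨z, hzE⟩ : E) ≠ ⟨y, hyE⟩ := fun h => by
        have h7 : z = y := congrArg Subtype.val h
        exact hyA (h7 ▸ pow_mem a.2 _)
      have hz1 : (1 : E) ≠ ⟨z, hzE⟩ := fun h => by
        have h7 : (1 : G) = z := congrArg Subtype.val h
        rw [← h7, orderOf_one] at hzo; omega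
      have hy1 : (1 : E) ≠ ⟨y, hyE⟩ := fun h => by
        have h7 : (1 : G) = y := congrArg Subtype.val h
        exact hyA (h7 ▸ one_mem A)
      classical
      haveI := Fintype.ofFinite E
      have h3 : ({1, ⟨z, hzE⟩, ⟨y, hyE⟩} : Finset E).card ≤ Nat.card E := by
        rw [Nat.card_eq_fintype_card]; exact Finset.card_le_univ _
      rw [Finset.card_insert_of_notMem (by simp [hz1, hy1]), Finset.card_insert_of_notMem (by simp [hzy]),
        Finset.card_singleton] at h3
      omega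
    -- an element of order four commuting with `E`
    set w := (a : G) ^ (2 ^ (m - 2) : ℕ) with hw
    have hwo : orderOf w = 4 := by
      rw [hw, orderOf_pow' _ (pow_ne_zero _ two_ne_zero), hm, Nat.gcd_eq_right (pow_dvd_pow 2 (by omega)),
        Nat.pow_div (by omega) two_pos, show m - (m - 2) = 2 by omega]
      norm_num
    have hwy : y * w * y⁻¹ = w := by
      rw [hy, hw, ← zpow_natCast,
        show x * (a : G) ^ v * (a : G) ^ ((2 ^ (m - 2) : ℕ) : ℤ) * (x * (a : G) ^ v)⁻¹ =
          x * (a : G) ^ ((2 ^ (m - 2) : ℕ) : ℤ) * x⁻¹ by group, hconj, ← mul_inv_eq_one, ← zpow_neg, ← zpow_add]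
      refine orderOf_dvd_iff_zpow_eq_one.mp (hm ▸ ⟨q, ?_⟩)
      have : ((2 ^ m : ℕ) : ℤ) = 4 * ((2 ^ (m - 2) : ℕ) : ℤ) := by
        rw [show (4 : ℤ) = ((2 ^ 2 : ℕ) : ℤ) from rfl, ← Nat.cast_mul, ← pow_add, show 2 + (m - 2) = m by omega]
      rw [this]
      linear_combination ((2 ^ (m - 2) : ℕ) : ℤ) * hq
    have hwE : w ∈ E := hh E hEnc (by
      rw [hE, Subgroup.centralizer_closure, Subgroup.mem_centralizer_iff]
      rintro e (rfl | rfl)
      · exact ((Commute.refl (a : G)).pow_pow _ _).eq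
      · calc y * w = y * w * y⁻¹ * y := by group
          _ = w * y := by rw [hwy])
    have := orderOf_dvd_of_pow_eq_one (hE2' w hwE)
    rw [hwo] at this
    omega
  have hodd : ∀ g : G, ∀ k : ℤ, g * a * g⁻¹ = (a : G) ^ k → Odd k := fun g k hk => by
    by_contra hev
    obtain ⟨r, hr⟩ := Int.not_odd_iff_even.mp hev
    have h1 : orderOf (g * a * g⁻¹) = 2 ^ m := by
      rw [← hm]; exact (MulAut.conj g).orderOf_eq (a : G)
    have h2 : (g * a * g⁻¹) ^ (2 ^ (m - 1) : ℕ) = 1 := by
      rw [hk, ← zpow_natCast, ← zpow_mul]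
      refine orderOf_dvd_iff_zpow_eq_one.mp (hm ▸ ⟨r, ?_⟩)
      have : ((2 ^ m : ℕ) : ℤ) = 2 * ((2 ^ (m - 1) : ℕ) : ℤ) := by
        rw [show (2 : ℤ) = ((2 : ℕ) : ℤ) from rfl, ← Nat.cast_mul, ← pow_succ', show m - 1 + 1 = m by omega]
      rw [this, hr]; ring
    have h3 := orderOf_dvd_of_pow_eq_one h2
    rw [h1, Nat.pow_dvd_pow_iff_le_right (show 1 < 2 by norm_num)] at h3
    omega
  -- `A` has index two
  have hsq : ∀ g : G, g ^ 2 ∈ A := by
    intro g
    obtain ⟨j, hj⟩ := hP g
    suffices h : ∀ j : ℕ, g ^ 2 ^ (j + 1) ∈ A → g ^ 2 ∈ A by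
      exact h j (by rw [pow_succ, pow_mul, hj, one_pow]; exact one_mem _)
    intro j
    induction j with
    | zero => intro h; simpa using h
    | succ j ih =>
      intro h
      refine ih ?_
      by_contra hn
      set u := g ^ 2 ^ j with hu
      have e : g ^ 2 ^ (j + 1) = u ^ 2 := by rw [hu, ← pow_mul, pow_succ]
      obtain ⟨k, hk⟩ := hact u
      obtain ⟨r, hr⟩ := hodd u k hk
      refine hkey (u ^ 2) (e ▸ hn) (by rw [← e, ← pow_mul, ← pow_succ]; exact h) (k * k) ?_
        ⟨r * (r + 1), by rw [hr]; ring⟩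
      rw [zpow_mul, ← hk, conj_zpow, ← hk, sq]
      group
  have hidx : A.index = 2 := by
    obtain ⟨c, hc⟩ : ∃ c, c ∉ A := by
      by_contra hall
      push Not at hall
      exact hna ⟨⟨fun u v => hcomm u (hall u) v (hall v)⟩⟩
    rw [Subgroup.index_eq_two_iff]
    refine ⟨c, fun b => ?_⟩
    by_cases hb : b ∈ A
    · exact Or.inr ⟨hb, fun h => hc (by simpa using A.mul_mem (A.inv_mem hb) h)⟩
    refine Or.inl ⟨?_, hb⟩
    by_contra hbc
    obtain ⟨k, hk⟩ := hact b
    obtain ⟨l, hl⟩ := hact c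
    obtain ⟨r, hr⟩ := hodd b k hk
    obtain ⟨s, hs⟩ := hodd c l hl
    have hbk : ¬ (4 : ℤ) ∣ k - 1 := hkey b hb (hsq b) k hk
    have hcl : ¬ (4 : ℤ) ∣ l - 1 := hkey c hc (hsq c) l hl
    obtain ⟨r', hr'⟩ : Odd r := by
      by_contra h
      obtain ⟨t, ht⟩ := Int.not_odd_iff_even.mp h
      exact hbk ⟨t, by rw [hr, ht]; ring⟩
    obtain ⟨s', hs'⟩ : Odd s := by
      by_contra h
      obtain ⟨t, ht⟩ := Int.not_odd_iff_even.mp h
      exact hcl ⟨t, by rw [hs, ht]; ring⟩
    refine hkey (b * c) hbc (hsq _) (k * l) ?_ ⟨4 * r' * s' + 3 * r' + 3 * s' + 2, by rw [hr, hs, hr', hs']; ring⟩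
    rw [show b * c * a * (b * c)⁻¹ = b * (c * a * c⁻¹) * b⁻¹ by group, hl, ← conj_zpow, hk, zpow_mul]
  obtain ⟨x, hx⟩ : ∃ x, x ∉ A := by
    by_contra hall
    push Not at hall
    exact hna ⟨⟨fun u v => hcomm u (hall u) v (hall v)⟩⟩
  obtain ⟨k, hk⟩ := hact x
  have hk4 := hkey x hx (hsq x) k hk
  obtain ⟨r, hr⟩ := hodd x k hk
  -- the centralizer of `x` has order four
  set C := Subgroup.centralizer ({x} : Set G) with hC
  set z := (a : G) ^ (2 ^ (m - 1) : ℕ) with hz
  have hzo : orderOf z = 2 := by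
    rw [hz, orderOf_pow' _ (pow_ne_zero _ two_ne_zero), hm, Nat.gcd_eq_right (pow_dvd_pow 2 (by omega)),
      Nat.pow_div (by omega) two_pos, show m - (m - 1) = 1 by omega, pow_one]
  have hCA2 : A ⊓ C = Subgroup.zpowers z := by
    refine le_antisymm (fun y hy => ?_) (Subgroup.zpowers_le.mpr (Subgroup.mem_inf.mpr ⟨A.pow_mem a.2 _, ?_⟩))
    · obtain ⟨i, rfl⟩ := hgen y (Subgroup.mem_inf.mp hy).1
      have hyx : (a : G) ^ i * x = x * (a : G) ^ i :=
        Subgroup.mem_centralizer_singleton_iff.mp (Subgroup.mem_inf.mp hy).2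
      have h1 : (a : G) ^ (k * i) = (a : G) ^ i := by
        rw [zpow_mul, ← hk, conj_zpow, ← hyx]
        group
      have h2 : ((2 ^ m : ℕ) : ℤ) ∣ (k - 1) * i := by
        rw [← hm, orderOf_dvd_iff_zpow_eq_one, sub_mul, one_mul, zpow_sub, h1, mul_inv_cancel]
      have hr' : ¬ (2 : ℤ) ∣ r := fun ⟨t, ht⟩ => hk4 ⟨t, by rw [hr, ht]; ring⟩
      have h3 : ((2 ^ (m - 1) : ℕ) : ℤ) ∣ i := by
        rw [hr, show m = m - 1 + 1 by omega, pow_succ', Nat.cast_mul,
          show (2 * r + 1 - 1) * i = (2 : ℤ) * (r * i) by ring] at h2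
        have h4 := Int.dvd_of_mul_dvd_mul_left two_ne_zero h2
        refine Int.dvd_of_dvd_mul_right_of_gcd_one h4 ?_
        rw [Int.gcd, Int.natAbs_natCast]
        exact Nat.Coprime.pow_left _ (Nat.prime_two.coprime_iff_not_dvd.mpr fun h => hr' (Int.natCast_dvd.mpr h))
      obtain ⟨t, ht⟩ := h3
      exact ⟨t, by show z ^ t = _; rw [hz, ht, ← zpow_natCast, ← zpow_mul]⟩
    · refine Subgroup.mem_centralizer_singleton_iff.mpr ?_
      have h1 : x * z * x⁻¹ = z := by
        rw [hz, ← zpow_natCast, ← conj_zpow, hk, ← zpow_mul, ← mul_inv_eq_one, ← zpow_neg, ← zpow_add]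
        refine orderOf_dvd_iff_zpow_eq_one.mp (hm ▸ ⟨r, ?_⟩)
        have : ((2 ^ m : ℕ) : ℤ) = 2 * ((2 ^ (m - 1) : ℕ) : ℤ) := by
          rw [show (2 : ℤ) = ((2 : ℕ) : ℤ) from rfl, ← Nat.cast_mul, ← pow_succ', show m - 1 + 1 = m by omega]
        rw [this, hr]; ring
      calc z * x = x * z * x⁻¹ * x := by rw [h1]
        _ = x * z := by group
  refine lowerCentralSeries_ne_bot_of_centralizer n hG x ?_
  have h := Cores.card_map_mul_card_inf_ker (QuotientGroup.mk' A) C
  rw [QuotientGroup.ker_mk', inf_comm, hCA2, Nat.card_zpowers, hzo] at h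
  have hcq : Nat.card (G ⧸ A) = 2 := by rw [← Subgroup.index_eq_card, hidx]
  haveI : Fact (Nat.card (G ⧸ A)).Prime := ⟨hcq.symm ▸ Nat.prime_two⟩
  have himg : C.map (QuotientGroup.mk' A) = ⊤ :=
    (Subgroup.eq_bot_or_eq_top_of_prime_card _).resolve_left fun hb' => hx (by
      have hm' : QuotientGroup.mk' A x ∈ C.map (QuotientGroup.mk' A) :=
        ⟨x, Subgroup.mem_centralizer_singleton_iff.mpr rfl, rfl⟩
      rw [hb', Subgroup.mem_bot] at hm'
      exact (QuotientGroup.eq_one_iff x).mp hm')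
  rw [himg, Subgroup.card_top, hcq] at h
  rw [← h]
  norm_num

end Cfsg.Agent.Lib.RankTwo
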