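import Cfsg.Prelude.Def_OddOrderLocal
import Cfsg.Agent.Lib.RankTwo.Basic
import Cfsg.Agent.Lib.PGroups.BurnsideBasis

/-!
For odd `p`, a two-generated `p`-group whose derived group consists of products of `p`-th powers is metacyclic.
-/

set_option autoImplicit false

open scoped commutatorElement

namespace Cfsg.Agent.Lib.RankTwo

universe u

variable {p : ℕ} [hp : Fact p.Prime]

/-- The subgroup generated by the `p`-th powers. -/
def powClosure (p : ℕ) (G : Type u) [Group G] : Subgroup G := Subgroup.closure (Set.range fun g : G => g ^ p)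

theorem pow_mem_powClosure {G : Type u} [Group G] (g : G) : g ^ p ∈ powClosure p G :=
  Subgroup.subset_closure ⟨g, rfl⟩

theorem powClosure_normal {G : Type u} [Group G] : (powClosure p G).Normal := by
  refine ⟨fun n hn g => ?_⟩
  have h : powClosure p G ≤ (powClosure p G).comap (MulAut.conj g).toMonoidHom := by
    rw [powClosure, Subgroup.closure_le]
    rintro _ ⟨y, rfl⟩
    show g * y ^ p * g⁻¹ ∈ powClosure p G
    rw [← conj_pow]
    exact pow_mem_powClosure _
  exact h hn

theorem powClosure_le_frattini {G : Type u} [Group G] [Finite G] (hG : IsPGroup p G) :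
    powClosure p G ≤ frattini G := by
  rw [powClosure, Subgroup.closure_le]
  rintro _ ⟨y, rfl⟩
  exact Cores.pow_mem_frattini hG y

/-- `G` is metacyclic if `⟨h⟩` contains the derived group and one more element generates `G`. -/
theorem isMetacyclic_of_generators {G : Type u} [Group G] (h b : G) (hc : commutator G ≤ Subgroup.zpowers h)
    (hgen : Subgroup.closure {h, b} = ⊤) : Cfsg.IsMetacyclic G := by
  haveI hn : (Subgroup.zpowers h).Normal := ⟨fun n hn g => by
    have h1 : ⁅g, n⁆ * n = g * n * g⁻¹ := by rw [commutatorElement_def]; group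
    rw [← h1]
    exact mul_mem (hc (Subgroup.commutator_mem_commutator (Subgroup.mem_top g) (Subgroup.mem_top n))) hn⟩
  refine ⟨Subgroup.zpowers h, hn, inferInstance, isCyclic_iff_exists_zpowers_eq_top.mpr
    ⟨QuotientGroup.mk' (Subgroup.zpowers h) b, ?_⟩⟩
  rw [eq_top_iff, ← Subgroup.map_top_of_surjective _ (QuotientGroup.mk'_surjective (Subgroup.zpowers h)), ← hgen,
    MonoidHom.map_closure, Subgroup.closure_le]
  rintro _ ⟨y, rfl | rfl, rfl⟩
  · have h1 : QuotientGroup.mk' (Subgroup.zpowers y) y = 1 := (QuotientGroup.eq_one_iff y).mpr (Subgroup.mem_zpowers y)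
    rw [h1]
    exact one_mem _
  · exact Subgroup.mem_zpowers _

/-- A finite `p`-group generated by two elements modulo a subgroup inside the Frattini subgroup. -/
theorem exists_two_generators {G : Type u} [Group G] [Finite G] (hG : IsPGroup p G)
    (h : (powClosure p G).index ∣ p ^ 2) : ∃ a b : G, Subgroup.closure {a, b} = ⊤ := by
  have hd : Nat.card (G ⧸ frattini G) ∣ p ^ 2 := by
    rw [← Subgroup.index_eq_card]
    exact (Subgroup.index_dvd_of_le (powClosure_le_frattini hG)).trans h
  obtain ⟨f, hf⟩ := PGroups.exists_generators_of_card hd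
  choose g hg using fun i => QuotientGroup.mk'_surjective (frattini G) (f i)
  refine ⟨g 0, g 1, ?_⟩
  have h1 := PGroups.closure_eq_top_of_mk g (by
    rw [show (fun i => (g i : G ⧸ frattini G)) = f from funext hg]; exact hf)
  rw [← h1]
  congr 1
  ext y
  simp only [Set.mem_insert_iff, Set.mem_singleton_iff, Set.mem_range, Fin.exists_fin_two, eq_comm]

/-- In a group generated by `a` and `b` whose commutator is central, the derived group is generated by it. -/
theorem commutator_le_zpowers {G : Type u} [Group G] {a b : G} (hgen : Subgroup.closure {a, b} = ⊤)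
    (hc : ⁅a, b⁆ ∈ Subgroup.center G) : commutator G ≤ Subgroup.zpowers ⁅a, b⁆ := by
  haveI hn : (Subgroup.zpowers ⁅a, b⁆).Normal := ⟨fun n hn g => by
    rw [Subgroup.mem_center_iff.mp (Subgroup.zpowers_le.mpr hc hn) g, mul_inv_cancel_right]; exact hn⟩
  set π := QuotientGroup.mk' (Subgroup.zpowers ⁅a, b⁆)
  refine hn.quotient_commutative_iff_commutator_le.mp ⟨⟨fun u v => ?_⟩⟩
  have hcomm : IsMulCommutative (Subgroup.closure (π '' {a, b})) := by
    have hab : π a * π b = π b * π a := by
      rw [← commutatorElement_eq_one_iff_mul_comm, ← map_commutatorElement, QuotientGroup.mk'_apply,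
        QuotientGroup.eq_one_iff]
      exact Subgroup.mem_zpowers _
    refine Subgroup.isMulCommutative_closure ?_
    rintro _ ⟨y, rfl | rfl, rfl⟩ _ ⟨y', rfl | rfl, rfl⟩
    · rfl
    · exact hab
    · exact hab.symm
    · rfl
  have htop : Subgroup.closure (π '' {a, b}) = ⊤ := by
    rw [← MonoidHom.map_closure, hgen, Subgroup.map_top_of_surjective _ (QuotientGroup.mk'_surjective _)]
  rw [htop] at hcomm
  exact congrArg Subtype.val
    (hcomm.is_comm.comm (⟨u, Subgroup.mem_top u⟩ : (⊤ : Subgroup (G ⧸ Subgroup.zpowers ⁅a, b⁆))) ⟨v, Subgroup.mem_top v⟩)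

/-- In an elementary abelian group generated by two elements, an element `g ≠ 1` generates together with
one of them. -/
theorem exists_complete {Q : Type u} [Group Q] [Finite Q] (hexp : ∀ q : Q, q ^ p = 1)
    (hcomm : ∀ u v : Q, u * v = v * u) {A B g : Q} (htop : Subgroup.closure {A, B} = ⊤) (hg : g ≠ 1) :
    Subgroup.closure {g, A} = ⊤ ∨ Subgroup.closure {g, B} = ⊤ := by
  have hord : ∀ q : Q, q ≠ 1 → Nat.card (Subgroup.zpowers q) = p := fun q hq => by
    rw [Nat.card_zpowers]
    exact orderOf_eq_prime (hexp q) hq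
  by_cases hb : B ∈ Subgroup.zpowers g
  · left
    rw [eq_top_iff, ← htop, Subgroup.closure_le]
    rintro y (rfl | rfl)
    · exact Subgroup.subset_closure (Set.mem_insert_of_mem _ rfl)
    · exact (Subgroup.zpowers_le.mpr (Subgroup.subset_closure (Set.mem_insert _ _))) hb
  · right
    haveI : (Subgroup.zpowers B).Normal := ⟨fun n hn x => by
      rw [hcomm x n, mul_inv_cancel_right]; exact hn⟩
    have hgab : g ∈ Subgroup.zpowers A ⊔ Subgroup.zpowers B := by
      rw [Subgroup.zpowers_eq_closure, Subgroup.zpowers_eq_closure, ← Subgroup.closure_union,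
        Set.singleton_union, htop]
      exact Subgroup.mem_top _
    obtain ⟨u, ⟨i, rfl⟩, v, ⟨j, rfl⟩, huv⟩ := Subgroup.mem_sup_of_normal_right.mp hgab
    have huv' : A ^ i * B ^ j = g := huv
    have hi : A ^ i ≠ 1 := fun h => by
      rw [h, one_mul] at huv'
      have hgb : g ∈ Subgroup.zpowers B := ⟨j, huv'⟩
      have heq := Subgroup.eq_of_le_of_card_ge (Subgroup.zpowers_le.mpr hgb) (by
        rw [hord _ hg, hord _ (fun hb1 => hg (by rw [← huv', hb1, one_zpow]))])
      exact hb (heq ▸ Subgroup.mem_zpowers B)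
    have heq : Subgroup.zpowers (A ^ i) = Subgroup.zpowers A := Subgroup.eq_of_le_of_card_ge
      (Subgroup.zpowers_le.mpr ⟨i, rfl⟩)
      (by rw [hord _ hi, hord _ (fun ha1 => hi (by rw [ha1, one_zpow]))])
    have hgm : g ∈ Subgroup.closure ({g, B} : Set Q) := Subgroup.subset_closure (Set.mem_insert g _)
    have hBm : B ∈ Subgroup.closure ({g, B} : Set Q) :=
      Subgroup.subset_closure (Set.mem_insert_of_mem g rfl)
    have hai : A ^ i ∈ Subgroup.closure ({g, B} : Set Q) := by
      rw [eq_mul_inv_of_mul_eq huv']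
      exact Subgroup.mul_mem _ hgm (Subgroup.inv_mem _ (Subgroup.zpow_mem _ hBm j))
    rw [eq_top_iff, ← htop, Subgroup.closure_le]
    rintro y (rfl | rfl)
    · exact Subgroup.zpowers_le.mpr hai (heq ▸ Subgroup.mem_zpowers _)
    · exact Subgroup.subset_closure (Set.mem_insert_of_mem _ rfl)

set_option maxHeartbeats 1000000 in
/-- A two-generated `p`-group, `p` odd, with derived group inside the subgroup generated by the `p`-th powers
is metacyclic. -/
theorem isMetacyclic_of_commutator_le_pow (hp2 : p ≠ 2) : ∀ (n : ℕ) {G : Type u} [Group G] [Finite G],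
    Nat.card G ≤ n → IsPGroup p G → ∀ a b : G, Subgroup.closure {a, b} = ⊤ →
      commutator G ≤ powClosure p G → Cfsg.IsMetacyclic G := by
  intro n
  induction n with
  | zero => intro G _ _ hn; exact absurd hn (not_le.mpr Nat.card_pos)
  | succ n ih =>
  intro G _ _ hn hG a b hgen hpow
  set D := commutator G with hD
  by_cases hD1 : D = ⊥
  · exact isMetacyclic_of_generators a b (by rw [← hD, hD1]; exact bot_le) hgen
  set W := Subgroup.closure {t | (∃ d ∈ D, d ^ p = t) ∨ ∃ d ∈ D, ∃ g : G, ⁅d, g⁆ = t} with hW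
  have hWmem : ∀ d ∈ D, d ^ p ∈ W ∧ ∀ g : G, ⁅d, g⁆ ∈ W := fun d hd =>
    ⟨Subgroup.subset_closure (Or.inl ⟨d, hd, rfl⟩), fun g => Subgroup.subset_closure (Or.inr ⟨d, hd, g, rfl⟩)⟩
  haveI hWn : W.Normal := ⟨fun w hw g => by
    have h : W ≤ W.comap (MulAut.conj g).toMonoidHom := by
      rw [hW, Subgroup.closure_le]
      rintro t (⟨d, hd, rfl⟩ | ⟨d, hd, k, rfl⟩)
      · show g * d ^ p * g⁻¹ ∈ W
        rw [← conj_pow]
        exact (hWmem _ ((inferInstance : D.Normal).conj_mem d hd g)).1
      · show g * ⁅d, k⁆ * g⁻¹ ∈ W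
        have e : g * ⁅d, k⁆ * g⁻¹ = ⁅g * d * g⁻¹, g * k * g⁻¹⁆ := by simp only [commutatorElement_def]; group
        rw [e]
        exact (hWmem _ ((inferInstance : D.Normal).conj_mem d hd g)).2 _
    exact h hw⟩
  by_cases hW1 : W = ⊥
  · -- the derived group is central of exponent `p`
    have hDc : D ≤ Subgroup.center G := fun d hd => Subgroup.mem_center_iff.mpr fun g => by
      have := (hWmem d hd).2 g
      rw [hW1, Subgroup.mem_bot, commutatorElement_eq_one_iff_mul_comm] at this
      exact this.symm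
    have hDp : ∀ d ∈ D, d ^ p = 1 := fun d hd => by
      have := (hWmem d hd).1
      rwa [hW1, Subgroup.mem_bot] at this
    have hcm : ∀ u v : G, ⁅u, v⁆ ∈ D := fun u v =>
      Subgroup.commutator_mem_commutator (Subgroup.mem_top u) (Subgroup.mem_top v)
    have hmul : ∀ u v : G, (u * v) ^ p = u ^ p * v ^ p := fun u v =>
      mul_pow_class_two hp2 (Subgroup.mem_center_iff.mp (hDc (hcm v u)) u)
        (Subgroup.mem_center_iff.mp (hDc (hcm v u)) v) (hDp _ (hcm v u))
    let φ : G →* G := { toFun := fun g => g ^ p, map_one' := one_pow p, map_mul' := hmul }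
    have hrange : powClosure p G = φ.range := by
      exact Subgroup.closure_eq φ.range
    set c := ⁅a, b⁆ with hc
    have hDle : D ≤ Subgroup.zpowers c := commutator_le_zpowers hgen (hDc (hcm a b))
    have hc1 : c ≠ 1 := fun h => hD1 (le_bot_iff.mp (hDle.trans (by rw [h, Subgroup.zpowers_one_eq_bot])))
    obtain ⟨g0, hg0⟩ : c ∈ φ.range := hrange ▸ hpow (hcm a b)
    obtain ⟨g, hcg, hmax⟩ : ∃ g : G, c ∈ Subgroup.zpowers g ∧
        ∀ h : G, c ∈ Subgroup.zpowers h → orderOf h ≤ orderOf g := by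
      obtain ⟨g, hg, hmax⟩ := Set.exists_max_image {g : G | c ∈ Subgroup.zpowers g} orderOf (Set.toFinite _)
        ⟨c, Subgroup.mem_zpowers c⟩
      exact ⟨g, hg, hmax⟩
    have hg1 : g ≠ 1 := fun h => hc1 (by rw [h, Subgroup.zpowers_one_eq_bot, Subgroup.mem_bot] at hcg; exact hcg)
    have hgP : g ∉ φ.range := by
      rintro ⟨h, hh⟩
      have hh' : h ^ p = g := hh
      have h1 := hmax h (Subgroup.zpowers_le.mpr (hh' ▸ pow_mem (Subgroup.mem_zpowers h) p) hcg)
      obtain ⟨k, hk⟩ := hG.exists_orderOf_eq_pow h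
      have hk0 : k ≠ 0 := fun h0 => hg1 (by
        have hh0 : h = 1 := orderOf_eq_one_iff.mp (by rw [hk, h0, pow_zero])
        rw [← hh', hh0, one_pow])
      obtain ⟨k, rfl⟩ := Nat.exists_eq_succ_of_ne_zero hk0
      have h2 : orderOf g = p ^ k := by
        rw [← hh', orderOf_pow' h hp.out.ne_zero, hk, Nat.gcd_eq_right (dvd_pow_self p (Nat.succ_ne_zero k)),
          pow_succ, Nat.mul_div_cancel _ hp.out.pos]
      rw [hk, h2] at h1
      exact absurd h1 (not_le.mpr (Nat.pow_lt_pow_right hp.out.one_lt k.lt_succ_self))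
    set P := powClosure p G with hP
    haveI : P.Normal := powClosure_normal
    have hgP' : g ∉ P := hrange ▸ hgP
    -- complete `g` to a generating pair
    set π := QuotientGroup.mk' P
    have hexp : ∀ q : G ⧸ P, q ^ p = 1 := fun q => by
      obtain ⟨y, rfl⟩ := QuotientGroup.mk'_surjective P q
      rw [← map_pow, QuotientGroup.mk'_apply, QuotientGroup.eq_one_iff]
      exact pow_mem_powClosure y
    obtain ⟨b', hb'⟩ : ∃ b' : G, Subgroup.closure {π g, π b'} = ⊤ := by
      have htop : Subgroup.closure {π a, π b} = ⊤ := by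
        rw [← Subgroup.map_top_of_surjective π (QuotientGroup.mk'_surjective P), ← hgen, MonoidHom.map_closure,
          Set.image_pair]
      have hcomm : ∀ u v : G ⧸ P, u * v = v * u :=
        ((inferInstance : P.Normal).quotient_commutative_iff_commutator_le.mpr hpow).is_comm.comm
      have hgq : π g ≠ 1 := fun h => hgP' ((QuotientGroup.eq_one_iff g).mp h)
      rcases exists_complete (p := p) hexp hcomm htop hgq with h | h
      · exact ⟨a, h⟩
      · exact ⟨b, h⟩
    refine isMetacyclic_of_generators g b' (hDle.trans (Subgroup.zpowers_le.mpr hcg)) ?_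
    refine frattini_nongenerating (eq_top_iff.mpr fun y _ => ?_)
    have hy : π y ∈ (Subgroup.closure {g, b'}).map π := by
      rw [MonoidHom.map_closure, Set.image_pair, hb']; exact Subgroup.mem_top _
    obtain ⟨w, hw, hwy⟩ := hy
    have hm : w⁻¹ * y ∈ P := QuotientGroup.eq.mp hwy
    rw [← mul_inv_cancel_left w y]
    exact mul_mem (Subgroup.mem_sup_left hw) (Subgroup.mem_sup_right (powClosure_le_frattini hG hm))
  · obtain ⟨z, hzW, hzo, hzc⟩ := PLocal.exists_central_prime_mem hG hW1
    set Z := Subgroup.zpowers z with hZ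
    have hZc : Z ≤ Subgroup.center G := Subgroup.zpowers_le.mpr hzc
    haveI hZn : Z.Normal := ⟨fun w hw g => by
      rw [Subgroup.mem_center_iff.mp (hZc hw) g, mul_inv_cancel_right]; exact hw⟩
    set π := QuotientGroup.mk' Z with hπ
    have hπs : Function.Surjective π := QuotientGroup.mk'_surjective Z
    have hcard : Nat.card (G ⧸ Z) < Nat.card G := by
      rw [Subgroup.card_eq_card_quotient_mul_card_subgroup Z]
      refine lt_mul_of_one_lt_right Nat.card_pos ?_
      rw [hZ, Nat.card_zpowers, hzo]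
      exact hp.out.one_lt
    obtain ⟨N', hN'n, hN'c, hN'q⟩ := ih (G := G ⧸ Z) (by omega) (hG.to_quotient Z) (π a) (π b)
      (by rw [← Subgroup.map_top_of_surjective _ hπs, ← hgen, MonoidHom.map_closure, Set.image_pair])
      (by
        rw [commutator_def, ← Subgroup.map_top_of_surjective π hπs, ← Subgroup.map_commutator, ← commutator_def]
        refine (Subgroup.map_mono hpow).trans ?_
        rw [powClosure, MonoidHom.map_closure, Subgroup.closure_le]
        rintro _ ⟨_, ⟨y, rfl⟩, rfl⟩
        exact (map_pow π y p).symm ▸ pow_mem_powClosure _)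
    obtain ⟨qa, hqa⟩ := isCyclic_iff_exists_zpowers_eq_top.mp hN'c
    obtain ⟨a₁, ha₁⟩ := hπs qa.1
    have hN' : N' = Subgroup.zpowers (π a₁) := by
      rw [ha₁, show Subgroup.zpowers qa.1 = (Subgroup.zpowers qa).map N'.subtype from
        (MonoidHom.map_zpowers N'.subtype qa).symm, hqa, ← MonoidHom.range_eq_map, Subgroup.range_subtype]
    subst hN'
    set N := (Subgroup.zpowers (π a₁)).comap π with hN
    haveI hNn : N.Normal := hN'n.comap π
    have hNeq : ∀ y ∈ N, ∃ i : ℤ, ∃ ζ ∈ Z, y = a₁ ^ i * ζ := by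
      rintro y ⟨i, hi⟩
      refine ⟨i, (a₁ ^ i)⁻¹ * y, QuotientGroup.eq.mp ?_, (mul_inv_cancel_left _ y).symm⟩
      show π (a₁ ^ i) = π y
      rw [map_zpow]; exact hi
    have ha₁N : a₁ ∈ N := Subgroup.mem_zpowers (π a₁)
    have hZN : Z ≤ N := fun w hw => by
      refine Subgroup.mem_comap.mpr ?_
      have h1 : π w = 1 := (QuotientGroup.eq_one_iff w).mpr hw
      rw [h1]
      exact one_mem _
    -- the quotient is cyclic
    have hQ : IsCyclic (G ⧸ N) := by
      let ψ : G →* (G ⧸ Z) ⧸ Subgroup.zpowers (π a₁) := (QuotientGroup.mk' _).comp π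
      have hker : ψ.ker = N := by
        ext y
        simp [ψ, hN, MonoidHom.mem_ker, Subgroup.mem_comap, QuotientGroup.eq_one_iff]
      exact ((QuotientGroup.quotientMulEquivOfEq hker.symm).trans (QuotientGroup.quotientKerEquivOfSurjective ψ
        ((QuotientGroup.mk'_surjective _).comp hπs))).isCyclic.mpr hN'q
    by_cases hza : z ∈ Subgroup.zpowers a₁
    · refine ⟨N, hNn, ?_, hQ⟩
      have hNe : N = Subgroup.zpowers a₁ := le_antisymm (fun y hy => by
        obtain ⟨i, ζ, hζ, rfl⟩ := hNeq y hy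
        exact mul_mem (zpow_mem (Subgroup.mem_zpowers a₁) i) (Subgroup.zpowers_le.mpr hza hζ))
        (Subgroup.zpowers_le.mpr ha₁N)
      rw [hNe]; infer_instance
    exfalso
    have hpowN : ∀ i : ℤ, ∀ ζ ∈ Z, (a₁ ^ i * ζ) ^ p = (a₁ ^ p) ^ i := by
      intro i ζ hζ
      have hζp : ζ ^ p = 1 := by
        have := orderOf_dvd_of_pow_eq_one (x := (⟨ζ, hζ⟩ : Z)) (n := Nat.card Z) pow_card_eq_one'
        rw [Subgroup.orderOf_mk, hZ, Nat.card_zpowers, hzo] at this
        exact orderOf_dvd_iff_pow_eq_one.mp this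
      have hcm : Commute (a₁ ^ i) ζ := Subgroup.mem_center_iff.mp (hZc hζ) _
      rw [hcm.mul_pow, hζp, mul_one, ← zpow_natCast, ← zpow_mul, ← zpow_natCast a₁, ← zpow_mul, mul_comm]
    set A := Subgroup.zpowers (a₁ ^ p) with hA
    haveI hAn : A.Normal := ⟨fun w hw g => by
      obtain ⟨j, rfl⟩ := hw
      obtain ⟨i, ζ, hζ, hi⟩ := hNeq _ (hNn.conj_mem a₁ ha₁N g)
      show g * (a₁ ^ p) ^ j * g⁻¹ ∈ A
      rw [← conj_zpow, ← conj_pow, hi, hpowN i ζ hζ, ← zpow_mul]
      exact ⟨_, rfl⟩⟩
    have hDN : D ≤ N := by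
      rw [hD]
      refine (inferInstance : N.Normal).quotient_commutative_iff_commutator_le.mp ?_
      haveI := hQ
      exact ⟨⟨(IsCyclic.commGroup (α := G ⧸ N)).mul_comm⟩⟩
    set T := A ⊔ Z with hT
    have hTmem : ∀ y ∈ T, ∃ j : ℤ, ∃ ζ ∈ Z, y = a₁ ^ ((p : ℤ) * j) * ζ := by
      intro y hy
      obtain ⟨u, ⟨j, rfl⟩, ζ, hζ, rfl⟩ := Subgroup.mem_sup_of_normal_right.mp hy
      exact ⟨j, ζ, hζ, by rw [zpow_mul, zpow_natCast]⟩
    -- the derived group lies in `A * Z`
    set ρ := QuotientGroup.mk' T with hρ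
    have hbar : (N.map ρ) ≤ Subgroup.center (G ⧸ T) := by
      haveI : (N.map ρ).Normal := hNn.map ρ (QuotientGroup.mk'_surjective T)
      refine le_center_of_card_le (p := p) (hG.to_quotient T) ?_
      have hle : N.map ρ ≤ Subgroup.zpowers (ρ a₁) := by
        rintro _ ⟨y, hy, rfl⟩
        obtain ⟨i, ζ, hζ, rfl⟩ := hNeq y hy
        rw [map_mul, map_zpow, show ρ ζ = 1 from (QuotientGroup.eq_one_iff ζ).mpr (Subgroup.mem_sup_right hζ),
          mul_one]
        exact ⟨i, rfl⟩
      refine (Subgroup.card_le_of_le hle).trans ?_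
      rw [Nat.card_zpowers]
      exact Nat.le_of_dvd hp.out.pos (orderOf_dvd_of_pow_eq_one (by
        rw [← map_pow]
        exact (QuotientGroup.eq_one_iff _).mpr (Subgroup.mem_sup_left (Subgroup.mem_zpowers _))))
    have hDT : D ≤ T := by
      rw [hD]
      refine (inferInstance : T.Normal).quotient_commutative_iff_commutator_le.mp ?_
      haveI : IsCyclic ((G ⧸ T) ⧸ N.map ρ) :=
        (QuotientGroup.quotientQuotientEquivQuotient T N (sup_le (Subgroup.zpowers_le.mpr
          (pow_mem ha₁N p)) hZN)).isCyclic.mpr hQ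
      exact ⟨⟨commutative_of_cyclic_center_quotient (QuotientGroup.mk' (N.map ρ))
        (by rw [QuotientGroup.ker_mk']; exact hbar)⟩⟩
    have hWA : W ≤ A := by
      rw [hW, Subgroup.closure_le]
      rintro t (⟨d, hd, rfl⟩ | ⟨d, hd, g, rfl⟩)
      · obtain ⟨j, ζ, hζ, rfl⟩ := hTmem d (hDT hd)
        rw [hpowN _ ζ hζ]
        exact ⟨_, rfl⟩
      · obtain ⟨j, ζ, hζ, rfl⟩ := hTmem d (hDT hd)
        have hz' := Subgroup.mem_center_iff.mp (hZc hζ)
        have hm : a₁ ^ ((p : ℤ) * j) ∈ A := ⟨j, by rw [zpow_mul, zpow_natCast]⟩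
        have e : ⁅a₁ ^ ((p : ℤ) * j) * ζ, g⁆ = ⁅a₁ ^ ((p : ℤ) * j), g⁆ := by
          simp only [commutatorElement_def]
          rw [mul_inv_rev, mul_assoc _ ζ g, ← hz' g, mul_assoc _ (g * ζ), mul_assoc g ζ, mul_inv_cancel_left,
            ← mul_assoc]
        rw [e, commutatorElement_def, mul_assoc _ g, mul_assoc]
        have := hAn.conj_mem _ (inv_mem hm) g
        simpa [mul_assoc] using mul_mem hm this
    exact hza (Subgroup.zpowers_le.mpr (pow_mem (Subgroup.mem_zpowers a₁) p) (hWA hzW))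

end Cfsg.Agent.Lib.RankTwo
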