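import Cfsg.Agent.Lib.RankTwo.Basic

/-!
A `p`-group with an element whose centraliser has order `p ^ 2` has maximal class.
-/

set_option autoImplicit false

open scoped commutatorElement

namespace Cfsg.Agent.Lib.RankTwo

universe u

variable {p : ℕ} [hp : Fact p.Prime]

theorem lowerCentralSeries_ne_bot_of_centralizer : ∀ (n : ℕ) {G : Type u} [Group G] [Finite G],
    Nat.card G = p ^ n → ∀ x : G, Nat.card (Subgroup.centralizer ({x} : Set G)) = p ^ 2 →
      (⊤ : Subgroup G).lowerCentralSeries (n - 2) ≠ ⊥ := by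
  intro n
  induction n using Nat.strongRecOn with
  | ind n ih =>
  intro G _ _ hn x hx
  set C := Subgroup.centralizer ({x} : Set G) with hC
  have h2n : 2 ≤ n := (Nat.pow_dvd_pow_iff_le_right hp.out.one_lt).mp
    (by rw [← hx, ← hn]; exact Subgroup.card_subgroup_dvd_card C)
  rcases Nat.eq_or_lt_of_le h2n with h | h3
  · subst h
    show (⊤ : Subgroup G) ≠ ⊥
    intro h0
    rw [← Subgroup.card_top, h0, Subgroup.card_bot] at hn
    exact absurd hn.symm (Nat.one_lt_pow two_ne_zero hp.out.one_lt).ne'
  have hG : IsPGroup p G := IsPGroup.of_card hn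
  haveI : Nontrivial G := Finite.one_lt_card_iff_nontrivial.mp (by
    rw [hn]; exact Nat.one_lt_pow (by omega) hp.out.one_lt)
  -- the centre has order `p`
  have hxZ : x ∉ Subgroup.center G := fun hxc => by
    have htop : C = ⊤ := eq_top_iff.mpr fun g _ =>
      Subgroup.mem_centralizer_singleton_iff.mpr (Subgroup.mem_center_iff.mp hxc g)
    rw [htop, Subgroup.card_top, hn] at hx
    have := (Nat.pow_right_injective hp.out.two_le hx)
    omega
  have hZC : Subgroup.center G < C := by
    refine lt_of_le_of_ne (fun g hg => Subgroup.mem_centralizer_singleton_iff.mpr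
      (Subgroup.mem_center_iff.mp hg x).symm) fun h => hxZ ?_
    rw [h]
    exact Subgroup.mem_centralizer_singleton_iff.mpr rfl
  have hZp : Nat.card (Subgroup.center G) = p := by
    obtain ⟨k, hk, hk'⟩ := (Nat.dvd_prime_pow hp.out).mp (hx ▸ Subgroup.card_dvd_of_le hZC.le)
    haveI := hG.center_nontrivial
    have h1 : 1 < Nat.card (Subgroup.center G) := Finite.one_lt_card
    rcases k with _ | _ | _ | k
    · rw [hk', pow_zero] at h1; exact absurd h1 (lt_irrefl 1)
    · rw [hk', pow_one]
    · exact absurd (Subgroup.eq_of_le_of_card_ge hZC.le (by rw [hx, hk'])) hZC.ne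
    · omega
  set π := QuotientGroup.mk' (Subgroup.center G) with hπ
  have hπs : Function.Surjective π := QuotientGroup.mk'_surjective _
  set K := (Subgroup.centralizer ({π x} : Set (G ⧸ Subgroup.center G))).comap π with hK
  have hKmem : ∀ k ∈ K, ⁅k, x⁆ ∈ Subgroup.center G := fun k hk => by
    rw [← QuotientGroup.eq_one_iff, ← QuotientGroup.mk'_apply, ← hπ, map_commutatorElement,
      commutatorElement_eq_one_iff_mul_comm]
    exact Subgroup.mem_centralizer_singleton_iff.mp hk
  -- the commutator map with `x`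
  let φ : K →* Subgroup.center G :=
    { toFun := fun k => ⟨⁅(k : G), x⁆, hKmem k.1 k.2⟩
      map_one' := Subtype.ext (by simp)
      map_mul' := fun k l => Subtype.ext (by
        have h : ⁅(k : G) * l, x⁆ = k * ⁅(l : G), x⁆ * (k : G)⁻¹ * ⁅(k : G), x⁆ := by
          simp only [commutatorElement_def]; group
        show ⁅(k : G) * l, x⁆ = ⁅(k : G), x⁆ * ⁅(l : G), x⁆
        rw [h, Subgroup.mem_center_iff.mp (hKmem l.1 l.2) k, mul_inv_cancel_right,
          Subgroup.mem_center_iff.mp (hKmem l.1 l.2) ⁅(k : G), x⁆]) }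
  have hker : φ.ker.map K.subtype = C := by
    ext g
    constructor
    · rintro ⟨k, hk, rfl⟩
      exact Subgroup.mem_centralizer_singleton_iff.mpr
        (commutatorElement_eq_one_iff_mul_comm.mp (congrArg Subtype.val (show φ k = 1 from hk)))
    · intro hg
      have hgx := Subgroup.mem_centralizer_singleton_iff.mp hg
      have hgK : g ∈ K := Subgroup.mem_centralizer_singleton_iff.mpr (by rw [← map_mul, hgx, map_mul])
      exact ⟨⟨g, hgK⟩, Subtype.ext (commutatorElement_eq_one_iff_mul_comm.mpr hgx), rfl⟩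
  have hKle : Nat.card K ≤ p * p ^ 2 := by
    rw [← φ.ker.card_mul_index, Subgroup.index_ker, mul_comm]
    refine Nat.mul_le_mul ?_ (le_of_eq ?_)
    · rw [← hZp]; exact Subgroup.card_le_card_group _
    · rw [← hx, ← hker, Nat.card_congr (φ.ker.equivMapOfInjective _ K.subtype_injective).toEquiv]
  have hbar : Nat.card (G ⧸ Subgroup.center G) = p ^ (n - 1) := by
    have h := Subgroup.card_eq_card_quotient_mul_card_subgroup (Subgroup.center G)
    rw [hn, hZp, show n = n - 1 + 1 by omega, pow_succ] at h
    exact (Nat.eq_of_mul_eq_mul_right hp.out.pos h).symm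
  set D := Subgroup.centralizer ({π x} : Set (G ⧸ Subgroup.center G)) with hD
  have hDle : Nat.card D ≤ p ^ 2 := by
    have h := Cores.card_comap_mk' (Subgroup.center G) D
    rw [← hπ] at h
    have hKcard : Nat.card K = Nat.card D * p := by rw [hK, h, hZp, mul_comm]
    rw [hKcard, mul_comm p] at hKle
    exact Nat.le_of_mul_le_mul_right hKle hp.out.pos
  have hDcard : Nat.card D = p ^ 2 := by
    have hGb : IsPGroup p (G ⧸ Subgroup.center G) := hG.to_quotient _
    obtain ⟨j, hj⟩ := IsPGroup.iff_card.mp (hGb.to_subgroup D)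
    refine le_antisymm hDle (hj ▸ Nat.pow_le_pow_right hp.out.pos ?_)
    have hπx : π x ≠ 1 := fun h => hxZ ((QuotientGroup.eq_one_iff x).mp h)
    by_cases hc : π x ∈ Subgroup.center (G ⧸ Subgroup.center G)
    · have htop : D = ⊤ := eq_top_iff.mpr fun g _ =>
        Subgroup.mem_centralizer_singleton_iff.mpr (Subgroup.mem_center_iff.mp hc g)
      rw [htop, Subgroup.card_top, hbar] at hj
      have := Nat.pow_right_injective hp.out.two_le hj
      omega
    · haveI : Nontrivial (G ⧸ Subgroup.center G) := ⟨⟨π x, 1, hπx⟩⟩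
      haveI := hGb.center_nontrivial
      have hlt : Subgroup.center (G ⧸ Subgroup.center G) < D := by
        refine lt_of_le_of_ne (fun g hg => Subgroup.mem_centralizer_singleton_iff.mpr
          (Subgroup.mem_center_iff.mp hg (π x)).symm) fun h => hc ?_
        rw [h]
        exact Subgroup.mem_centralizer_singleton_iff.mpr rfl
      have h1 : 1 < Nat.card (Subgroup.center (G ⧸ Subgroup.center G)) := Finite.one_lt_card
      obtain ⟨i, hi, hi'⟩ := (Nat.dvd_prime_pow hp.out).mp (hj ▸ Subgroup.card_dvd_of_le hlt.le)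
      have hi0 : i ≠ 0 := fun h => by rw [hi', h, pow_zero] at h1; exact absurd h1 (lt_irrefl 1)
      by_contra hj2
      exact hlt.ne (Subgroup.eq_of_le_of_card_ge hlt.le (by
        rw [hj, hi']; exact Nat.pow_le_pow_right hp.out.pos (by omega)))
  have hind := ih (n - 1) (by omega) hbar (π x) hDcard
  intro hbot
  apply hind
  have hcen : (⊤ : Subgroup G).lowerCentralSeries (n - 3) ≤ Subgroup.center G := by
    rw [show n - 2 = n - 3 + 1 by omega, Subgroup.lowerCentralSeries_succ,
      Subgroup.commutator_eq_bot_iff_le_centralizer, Subgroup.coe_top, Subgroup.centralizer_univ] at hbot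
    exact hbot
  rw [show n - 1 - 2 = n - 3 by omega, ← Subgroup.map_top_of_surjective π hπs, ← Subgroup.map_lowerCentralSeries,
    Subgroup.map_eq_bot_iff, QuotientGroup.ker_mk']
  exact hcen

end Cfsg.Agent.Lib.RankTwo
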