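import Cfsg.Agent.Lib.RankTwo.Metacyclic
import Cfsg.Agent.Lib.RankTwo.MaxClass

/-!
`p`-groups, `p` odd, all of whose elements of order `p` lie in a normal subgroup of order `p ^ 2`.
-/

set_option autoImplicit false

open scoped commutatorElement

namespace Cfsg.Agent.Lib.RankTwo

universe u

variable {G : Type u} [Group G] [Finite G] {p : ℕ} [hp : Fact p.Prime]

omit [Finite G] in
theorem pow_mem_of_index {M : Subgroup G} [M.Normal] (hM : M.index = p) (x : G) : x ^ p ∈ M := by
  have := M.pow_index_mem x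
  rwa [hM] at this

theorem card_centralizer_eq_sq (hG : IsPGroup p G) {M E : Subgroup G} [M.Normal] (hM : M.index = p) (hEM : E ≤ M)
    (hEc : Nat.card E = p ^ 2) (hΩ : ∀ t ∈ M, t ^ p = 1 → t ∈ E) (hEp : ∀ e ∈ E, e ^ p = 1) {y z : G}
    (hy : y ∉ M) (hne : ∃ e ∈ E, ¬ Commute e y) (hz : z ∈ E) (hz1 : z ≠ 1) (hzy : Commute z y)
    (hroot : ∀ w ∈ M, Commute w y → w ^ p ≠ z) : Nat.card (Subgroup.centralizer ({y} : Set G)) = p ^ 2 := by
  set C := Subgroup.centralizer ({y} : Set G) with hC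
  have hmemC : ∀ g, g ∈ C ↔ Commute g y := fun g => Subgroup.mem_centralizer_singleton_iff
  have hzo : Nat.card (Subgroup.zpowers z) = p := by
    rw [Nat.card_zpowers, orderOf_eq_prime (hEp z hz) hz1]
  -- elements of order `p` of `M` centralising `y`
  have hEC : E ⊓ C = Subgroup.zpowers z := by
    refine (Subgroup.eq_of_le_of_card_ge (Subgroup.zpowers_le.mpr
      (Subgroup.mem_inf.mpr ⟨hz, (hmemC z).mpr hzy⟩)) ?_).symm
    obtain ⟨k, hk, hk'⟩ := (Nat.dvd_prime_pow hp.out).mp (hEc ▸ Subgroup.card_dvd_of_le (inf_le_left : E ⊓ C ≤ E))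
    rw [hzo, hk']
    refine (Nat.pow_le_pow_right hp.out.pos (show k ≤ 1 from ?_)).trans_eq (pow_one p)
    by_contra hk1
    obtain ⟨e, he, hey⟩ := hne
    have heq : E ⊓ C = E := Subgroup.eq_of_le_of_card_ge inf_le_left (by rw [hEc, hk', show k = 2 by omega])
    exact hey ((hmemC e).mp (Subgroup.mem_inf.mp (heq.symm ▸ he : e ∈ E ⊓ C)).2)
  have hexp : ∀ (j : ℕ) (u : G), u ∈ M → Commute u y → u ^ p ^ j = 1 → u ^ p = 1 := by
    intro j
    induction j with
    | zero => intro u _ _ hu; rw [pow_zero, pow_one] at hu; rw [hu, one_pow]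
    | succ j ih =>
      intro u huM huy hu
      have h2 := ih (u ^ p) (pow_mem huM p) (huy.pow_left p) (by rw [← pow_mul, ← pow_succ']; exact hu)
      have hmem : u ^ p ∈ Subgroup.zpowers z := hEC ▸ Subgroup.mem_inf.mpr
        ⟨hΩ _ (pow_mem huM p) h2, (hmemC _).mpr (huy.pow_left p)⟩
      by_contra hne1
      have heq := Subgroup.eq_of_le_of_card_ge (Subgroup.zpowers_le.mpr hmem) (by
        rw [hzo, Nat.card_zpowers, orderOf_eq_prime h2 hne1])
      obtain ⟨i, hi⟩ : z ∈ Subgroup.zpowers (u ^ p) := heq ▸ Subgroup.mem_zpowers z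
      refine hroot (u ^ i) (zpow_mem huM i) (huy.zpow_left i) ?_
      have hi' : (u ^ p) ^ i = z := hi
      rw [← hi', ← zpow_natCast, ← zpow_natCast u p, ← zpow_mul, ← zpow_mul, mul_comm]
  have hU : M ⊓ C = Subgroup.zpowers z := by
    refine le_antisymm (fun u hu => ?_) (Subgroup.zpowers_le.mpr (Subgroup.mem_inf.mpr ⟨hEM hz, (hmemC z).mpr hzy⟩))
    obtain ⟨huM, huC⟩ := Subgroup.mem_inf.mp hu
    obtain ⟨j, hj⟩ := hG u
    exact hEC ▸ Subgroup.mem_inf.mpr ⟨hΩ u huM (hexp j u huM ((hmemC u).mp huC) hj), huC⟩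
  have h := Cores.card_map_mul_card_inf_ker (QuotientGroup.mk' M) C
  rw [QuotientGroup.ker_mk', inf_comm, hU, hzo] at h
  have himg : C.map (QuotientGroup.mk' M) = ⊤ := by
    have hcq : Nat.card (G ⧸ M) = p := by rw [← Subgroup.index_eq_card, hM]
    haveI : Fact (Nat.card (G ⧸ M)).Prime := ⟨hcq.symm ▸ hp.out⟩
    refine (Subgroup.eq_bot_or_eq_top_of_prime_card (C.map (QuotientGroup.mk' M))).resolve_left fun hb => hy ?_
    have : QuotientGroup.mk' M y ∈ C.map (QuotientGroup.mk' M) := ⟨y, (hmemC y).mpr (Commute.refl y), rfl⟩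
    rw [hb, Subgroup.mem_bot] at this
    exact (QuotientGroup.eq_one_iff y).mp this
  rw [himg, Subgroup.card_top, ← Subgroup.index_eq_card, hM] at h
  rw [← h, sq]

/-- The set of `p`-th powers of `M` has at least `|M| / p ^ 2` elements. -/
theorem card_le_range_mul (hp2 : p ≠ 2) (hG : IsPGroup p G) {M E : Subgroup G} (hMc : OmegaCentral p M)
    (hEc : Nat.card E = p ^ 2) (hΩ : ∀ t ∈ M, t ^ p = 1 → t ∈ E) :
    Nat.card M ≤ Nat.card (Set.range fun m : M => (m : G) ^ p) * p ^ 2 := by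
  set S := Set.range fun m : M => (m : G) ^ p
  choose sec hsec using fun s : S => s.2
  let f : M → S × E := fun m => (⟨(m : G) ^ p, ⟨m, rfl⟩⟩,
    ⟨(sec ⟨(m : G) ^ p, ⟨m, rfl⟩⟩ : G)⁻¹ * m, hΩ _ (M.mul_mem (M.inv_mem (sec _).2) m.2)
      (inv_mul_pow_eq_one hp2 hG hMc (sec _).2 m.2 (hsec ⟨(m : G) ^ p, ⟨m, rfl⟩⟩))⟩)
  have hf : Function.Injective f := by
    intro m m' h
    have h1 := congrArg Prod.fst h
    have h2 : ((sec (f m).1 : M) : G)⁻¹ * m = ((sec (f m').1 : M) : G)⁻¹ * m' :=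
      congrArg (fun q => ((Prod.snd q : E) : G)) h
    rw [show (f m).1 = (f m').1 from h1] at h2
    exact Subtype.ext (mul_left_cancel h2)
  refine (Nat.card_le_card_of_injective f hf).trans ?_
  rw [Nat.card_prod, hEc]

/-- All elements of order `p` in a normal subgroup of order `p ^ 2`: metacyclic, or `p = 3` and maximal class. -/
theorem metacyclic_or_maxClass (hp2 : p ≠ 2) (hG : IsPGroup p G) {n : ℕ} (hn : Nat.card G = p ^ n)
    (E : Subgroup G) [E.Normal] (hEc : Nat.card E = p ^ 2) (hΩ : ∀ g : G, g ^ p = 1 → g ∈ E)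
    (hEp : ∀ e ∈ E, e ^ p = 1) :
    Cfsg.IsMetacyclic G ∨ (p = 3 ∧ 2 ≤ n ∧ (⊤ : Subgroup G).lowerCentralSeries (n - 2) ≠ ⊥) := by
  haveI := hG.isNilpotent
  have hn2 : 2 ≤ n := (Nat.pow_dvd_pow_iff_le_right hp.out.one_lt).mp
    (hEc ▸ hn ▸ Subgroup.card_subgroup_dvd_card E)
  by_cases hEtop : E = ⊤
  · left
    have hG2 : Nat.card G ∣ p ^ 2 := by rw [← Subgroup.card_top, ← hEtop, hEc]
    obtain ⟨a, b, hab⟩ := exists_two_generators hG
      ((Subgroup.index_dvd_card _).trans hG2)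
    refine isMetacyclic_of_commutator_le_pow hp2 _ le_rfl hG a b hab ?_
    haveI := isMulCommutative_of_card_dvd_sq (p := p) hG2
    rw [commutator_def, Subgroup.commutator_le]
    intro u _ v _
    rw [commutatorElement_eq_one_iff_mul_comm.mpr (mul_comm' u v)]
    exact one_mem _
  haveI hEab : IsMulCommutative E := isMulCommutative_of_card_dvd_sq (p := p) (dvd_of_eq hEc)
  -- a maximal subgroup `M` centralising `E`
  obtain ⟨M, hMn, hMidx, hEM, hMC, -⟩ : ∃ M : Subgroup G, M.Normal ∧ M.index = p ∧ E ≤ M ∧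
      M ≤ Subgroup.centralizer (E : Set G) ∧ True := by
    set C := Subgroup.centralizer (E : Set G) with hC
    by_cases hCtop : C = ⊤
    · obtain h | ⟨M, hM, hEM⟩ := eq_top_or_exists_le_coatom E
      · exact absurd h hEtop
      obtain ⟨hMn, hMp⟩ := Cores.prime_index_of_isCoatom hM
      obtain ⟨k, hk⟩ := hG.index M
      rw [hk] at hMp
      exact ⟨M, hMn, by rw [hk, Nat.Prime.eq_one_of_pow hMp, pow_one], hEM, hCtop ▸ le_top, trivial⟩
    · refine ⟨C, inferInstance, ?_, Subgroup.le_centralizer_iff_isMulCommutative.mpr hEab, le_rfl, trivial⟩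
      have hle := OddLocal.index_centralizer_le hG E hEc
      obtain ⟨k, hk⟩ := hG.index C
      rw [hk] at hle ⊢
      rcases k with _ | _ | k
      · exact absurd (Subgroup.index_eq_one.mp (hk.trans (pow_zero p))) hCtop
      · rw [pow_one]
      · exact absurd hle (not_le.mpr (lt_of_lt_of_le (lt_self_pow₀ hp.out.one_lt (by omega : 1 < 2))
          (Nat.pow_le_pow_right hp.out.pos (by omega))))
  haveI := hMn
  have hMc : OmegaCentral p M := fun t _ ht m hm =>
    Subgroup.mem_centralizer_iff.mp (hMC hm) t (hΩ t ht)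
  have hΩM : ∀ t ∈ M, t ^ p = 1 → t ∈ E := fun t _ ht => hΩ t ht
  by_cases hA : ∃ x : G, x ∉ M ∧ ∃ m ∈ M, m ^ p = x ^ p
  · obtain ⟨x, hx, m₀, hm₀, hmx⟩ := hA
    set m := m₀⁻¹ with hmdef
    have hmM : m ∈ M := M.inv_mem hm₀
    have hmp : m ^ p = (x ^ p)⁻¹ := by rw [hmdef, inv_pow, hmx]
    set c := m⁻¹ * (x⁻¹ * m * x) with hc
    have hconj : x⁻¹ * m * x ∈ M := by simpa using hMn.conj_mem m hmM x⁻¹
    have hcM : c ∈ M := M.mul_mem (M.inv_mem hmM) hconj
    have hcp : c ^ p = 1 := inv_mul_pow_eq_one hp2 hG hMc hmM hconj (by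
      have e : x⁻¹ * m * x = x⁻¹ * m * (x⁻¹)⁻¹ := by rw [inv_inv]
      rw [e, conj_pow, hmp, inv_inv, mul_assoc, ((Commute.refl x).pow_left p).inv_left.eq, ← mul_assoc,
        inv_mul_cancel, one_mul])
    have hcE := hΩ c hcp
    set ε := c⁻¹ * (x⁻¹ * c * x) with hε
    have hεe : ε = ⁅c⁻¹, x⁻¹⁆ := by rw [hε, commutatorElement_def]; group
    have hεc : ε ∈ Subgroup.center G := hεe ▸ commutator_mem_center hG E hEc (E.inv_mem hcE) x⁻¹
    have hεcomm : ∀ g, Commute ε g := fun g => (Subgroup.mem_center_iff.mp hεc g).symm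
    have hcE' : x⁻¹ * c * x ∈ E := by simpa using (inferInstance : E.Normal).conj_mem c hcE x⁻¹
    have hεE : ε ∈ E := E.mul_mem (E.inv_mem hcE) hcE'
    have hpow := mul_pow_iterate (x := x) (m := m) (c := c) (ε := ε) (by rw [hc]; group) (by rw [hε]; group)
      (hεcomm x).eq (hMc c hcM hcp m hmM).symm (hεcomm m).symm (hεcomm c).symm p
    rw [pow_of_dvd (x := c) hcp (dvd_choose hp2), mul_one, hmp, ← mul_assoc, mul_inv_cancel, one_mul] at hpow
    set y := x * m with hy
    have hyM : y ∉ M := fun h => hx (by simpa [hy] using M.mul_mem h (M.inv_mem hmM))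
    have hy1 : y ^ p ≠ 1 := fun h => hyM (hEM (hΩ y h))
    by_cases hp3 : p = 3
    · right
      refine ⟨hp3, hn2, lowerCentralSeries_ne_bot_of_centralizer n hn y ?_⟩
      have hc3 : p.choose 3 = 1 := by rw [hp3, Nat.choose_self]
      rw [hc3, pow_one] at hpow
      refine card_centralizer_eq_sq hG hMidx hEM hEc hΩM hEp hyM ⟨c, hcE, fun hcy => hy1 ?_⟩
        (z := y ^ p) (hpow ▸ hεE) hy1 ((Commute.refl y).pow_left p) fun w hw hwy hwp => ?_
      · -- `y` centralises `c`, so `ε = 1`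
        have hcx : Commute c x := by
          have := hcy.mul_right (hMc c hcM hcp m hmM).inv_right
          rwa [hy, mul_inv_cancel_right] at this
        rw [hpow, hε, mul_assoc, hcx.eq, inv_mul_cancel_left, inv_mul_cancel]
      · have h1 : (y * w⁻¹) ^ p = 1 := by
          rw [hwy.symm.inv_right.mul_pow, inv_pow, hwp, mul_inv_cancel]
        exact hyM (by simpa using M.mul_mem (hEM (hΩ _ h1)) hw)
    · exact absurd (hpow.trans (pow_of_dvd (hEp ε hεE) (dvd_choose_three hp2 hp3))) hy1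
  · left
    push Not at hA
    obtain ⟨x, hx⟩ : ∃ x, x ∉ M := by
      by_contra h
      push Not at h
      rw [(eq_top_iff.mpr fun g _ => h g : M = ⊤), Subgroup.index_top] at hMidx
      exact hp.out.one_lt.ne hMidx
    set L := powClosure p G with hL
    haveI : L.Normal := powClosure_normal
    have hlt : Nat.card (Set.range fun m : M => (m : G) ^ p) < Nat.card L := by
      refine Set.Finite.card_lt_card (Set.toFinite _) ⟨?_, fun h => ?_⟩
      · rintro _ ⟨m, rfl⟩
        exact pow_mem_powClosure _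
      · obtain ⟨m, hm⟩ := h (pow_mem_powClosure (p := p) x)
        exact hA x hx m m.2 hm
    have hb := card_le_range_mul hp2 hG hMc hEc hΩM
    have hMcard : Nat.card M * p = p ^ n := by rw [← hn, ← hMidx]; exact M.card_mul_index
    have hidx : L.index ∣ p ^ 2 := by
      obtain ⟨j, hj⟩ := hG.index L
      rw [hj]
      refine pow_dvd_pow p ?_
      by_contra hj2
      have h1 := L.card_mul_index
      rw [hj, hn] at h1
      have h2 : Nat.card (Set.range fun m : M => (m : G) ^ p) * p ^ j < Nat.card M * p := by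
        rw [hMcard, ← h1]
        exact Nat.mul_lt_mul_of_pos_right hlt (pow_pos hp.out.pos j)
      have h3 : Nat.card M * p ≤ Nat.card (Set.range fun m : M => (m : G) ^ p) * p ^ j := by
        calc Nat.card M * p ≤ Nat.card (Set.range fun m : M => (m : G) ^ p) * p ^ 2 * p := Nat.mul_le_mul_right p hb
          _ = Nat.card (Set.range fun m : M => (m : G) ^ p) * p ^ 3 := by ring
          _ ≤ _ := Nat.mul_le_mul_left _ (Nat.pow_le_pow_right hp.out.pos (by omega))
      omega
    obtain ⟨a, b, hab⟩ := exists_two_generators hG hidx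
    exact isMetacyclic_of_commutator_le_pow hp2 _ le_rfl hG a b hab (commutator_le_of_index_dvd_sq L hidx)

end Cfsg.Agent.Lib.RankTwo
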