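import Cfsg.Prelude.Def_CaseTheorems
import Cfsg.Agent.Lib.RankTwo.Omega
import Cfsg.Agent.Lib.Metacyclic.Geom
import Cfsg.Agent.Lib.OddLocal.UniquenessPassing

/-!
Blackburn's classification of the `p`-groups of rank at most two, for odd `p`.
-/

set_option autoImplicit false

open scoped commutatorElement

namespace Cfsg.Agent.Lib.RankTwo

universe u

variable {G : Type u} [Group G] [Finite G] {p : ℕ} [hp : Fact p.Prime]

/-- An element `x` of order `p` acting on `C = C(E)`, where `E` contains the elements of order `p` of `C`. -/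
structure Side (p : ℕ) (C E : Subgroup G) (x : G) : Prop where
  idx : C.index = p
  xC : x ∉ C
  xp : x ^ p = 1
  cardE : Nat.card E = p ^ 2
  le : E ≤ C
  comm : ∀ c ∈ C, ∀ e ∈ E, Commute c e
  omega : ∀ t ∈ C, t ^ p = 1 → t ∈ E
  expE : ∀ e ∈ E, e ^ p = 1
  moved : ∃ e ∈ E, ¬ Commute e x

variable {C E : Subgroup G} [C.Normal] [E.Normal] {x : G}

theorem Side.omegaCentral (S : Side p C E x) : OmegaCentral p C :=
  fun t ht htp c hc => (S.comm c hc t (S.omega t ht htp)).symm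

omit [C.Normal] [E.Normal] in
theorem Side.isPGroup (S : Side p C E x) {n : ℕ} (hn : Nat.card G = p ^ n) : IsPGroup p G :=
  IsPGroup.of_card hn

theorem Side.card_inf_center_le (S : Side p C E x) :
    Nat.card ↥(E ⊓ Subgroup.center G) ≤ p := by
  obtain ⟨k, hk, hk'⟩ := (Nat.dvd_prime_pow hp.out).mp
    (S.cardE ▸ Subgroup.card_dvd_of_le (inf_le_left : E ⊓ Subgroup.center G ≤ E))
  rw [hk']
  refine (Nat.pow_le_pow_right hp.out.pos (show k ≤ 1 from ?_)).trans_eq (pow_one p)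
  by_contra hk1
  obtain ⟨e, he, hex⟩ := S.moved
  have heq : E ⊓ Subgroup.center G = E :=
    Subgroup.eq_of_le_of_card_ge inf_le_left (by rw [S.cardE, hk', show k = 2 by omega])
  exact hex (Subgroup.mem_center_iff.mp (Subgroup.mem_inf.mp (heq.symm ▸ he : e ∈ E ⊓ Subgroup.center G)).2 x).symm

/-- A nontrivial central element of `E` generates `E ∩ Z(G)`. -/
theorem Side.mem_zpowers (S : Side p C E x) {z w : G} (hz : z ∈ E) (hzc : z ∈ Subgroup.center G) (hz1 : z ≠ 1)
    (hw : w ∈ E) (hwc : w ∈ Subgroup.center G) : w ∈ Subgroup.zpowers z := by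
  have h := Subgroup.eq_of_le_of_card_ge (H := Subgroup.zpowers z) (K := E ⊓ Subgroup.center G)
    (Subgroup.zpowers_le.mpr (Subgroup.mem_inf.mpr ⟨hz, hzc⟩))
    (by rw [Nat.card_zpowers, orderOf_eq_prime (S.expE z hz) hz1]; exact S.card_inf_center_le)
  rw [h]
  exact Subgroup.mem_inf.mpr ⟨hw, hwc⟩

/-- The only elements of `E` centralised by `x` are central. -/
theorem Side.mem_center_of_commute (S : Side p C E x) {e : G} (he : e ∈ E) (hex : Commute e x) :
    e ∈ Subgroup.center G := by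
  rw [Subgroup.mem_center_iff]
  intro g
  have htop : C ⊔ Subgroup.zpowers x = ⊤ :=
    (Cores.isCoatom_of_prime_index (S.idx.symm ▸ hp.out)).2 _ (lt_of_le_of_ne le_sup_left fun h =>
      S.xC (h ▸ Subgroup.mem_sup_right (Subgroup.mem_zpowers x)))
  obtain ⟨c, hc, v, ⟨i, rfl⟩, hcv⟩ := Subgroup.mem_sup_of_normal_left.mp (htop ▸ Subgroup.mem_top g)
  rw [← hcv]
  exact (((S.comm c hc e he).symm.mul_right (hex.zpow_right i)).eq).symm

theorem Side.conj_mem_E (_S : Side p C E x) {e : G} (he : e ∈ E) (g : G) : g⁻¹ * e * g ∈ E := by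
  simpa using (inferInstance : E.Normal).conj_mem e he g⁻¹

/-- `e⁻¹ * x⁻¹ * e * x` is central for `e ∈ E`. -/
theorem Side.diff_central (S : Side p C E x) (hG : IsPGroup p G) {e : G} (he : e ∈ E) (g : G) :
    e⁻¹ * (g⁻¹ * e * g) ∈ E ∧ e⁻¹ * (g⁻¹ * e * g) ∈ Subgroup.center G := by
  refine ⟨E.mul_mem (E.inv_mem he) (S.conj_mem_E he g), ?_⟩
  have h : e⁻¹ * (g⁻¹ * e * g) = ⁅e⁻¹, g⁻¹⁆ := by rw [commutatorElement_def]; group
  rw [h]
  exact commutator_mem_center hG E S.cardE (E.inv_mem he) g⁻¹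

set_option maxHeartbeats 1000000 in
/-- If a non-central element of `E` is a `p`-th power in `C`, then `p = 3` and `G` has maximal class. -/
theorem Side.maxClass (S : Side p C E x) (hp2 : p ≠ 2) {n : ℕ} (hn : Nat.card G = p ^ n) {d : G} (hd : d ∈ C)
    (hdE : d ^ p ∈ E) (hdc : d ^ p ∉ Subgroup.center G) :
    p = 3 ∧ 2 ≤ n ∧ (⊤ : Subgroup G).lowerCentralSeries (n - 2) ≠ ⊥ := by
  have hG := S.isPGroup hn
  have hM := S.omegaCentral
  have hconjC : ∀ {c : G}, c ∈ C → x⁻¹ * c * x ∈ C := fun {c} hc => by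
    simpa using (inferInstance : C.Normal).conj_mem c hc x⁻¹
  have hconj_pow : ∀ (c : G) (k : ℕ), (x⁻¹ * c * x) ^ k = x⁻¹ * c ^ k * x := fun c k => by
    have h := conj_pow (a := x⁻¹) (b := c) (i := k)
    rwa [inv_inv] at h
  set e := d ^ p with he
  set d' := x⁻¹ * d * x with hd'
  set f := d⁻¹ * d' with hf
  set z := e⁻¹ * (x⁻¹ * e * x) with hz
  obtain ⟨hzE, hzc⟩ := S.diff_central hG hdE x
  have hfC : f ∈ C := C.mul_mem (C.inv_mem hd) (hconjC hd)
  have hfp : f ^ p = z := by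
    rw [hf, mul_pow_of_commute_pow hp2 hG hM (C.inv_mem hd) (hconjC hd)
      (by rw [inv_pow]; exact (S.comm _ (hconjC hd) _ hdE).inv_right), inv_pow, hconj_pow]
  have hz1 : z ≠ 1 := fun h => hdc (S.mem_center_of_commute hdE (by
    have h' : x⁻¹ * e * x = e := by rwa [hz, inv_mul_eq_one, eq_comm] at h
    show e * x = x * e
    calc e * x = x * (x⁻¹ * e * x) := by group
      _ = x * e := by rw [h']))
  set η := f⁻¹ * (x⁻¹ * f * x) with hη
  have hηC : η ∈ C := C.mul_mem (C.inv_mem hfC) (hconjC hfC)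
  have hηp : η ^ p = 1 := inv_mul_pow_eq_one hp2 hG hM hfC (hconjC hfC) (by
    rw [hconj_pow, hfp, mul_assoc, ← Subgroup.mem_center_iff.mp hzc x, inv_mul_cancel_left])
  have hηE := S.omega η hηC hηp
  set ε := η⁻¹ * (x⁻¹ * η * x) with hε
  obtain ⟨hεE, hεc⟩ := S.diff_central hG hηE x
  have hεcomm : ∀ g, Commute ε g := fun g => (Subgroup.mem_center_iff.mp hεc g).symm
  have hit := iterate (x := x) (d := d) (f := f) (η := η) (ε := ε) (by rw [hf, hd']; group)
    (by rw [hη]; group) (by rw [hε]; group) (hεcomm x).eq (S.comm f hfC η hηE) (hεcomm f).symm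
    (hεcomm η).symm p
  rw [S.xp, mul_one, one_mul, hfp, pow_of_dvd hηp (dvd_choose hp2), mul_one, mul_assoc, eq_comm,
    mul_eq_left] at hit
  by_cases hp3 : p = 3
  swap
  · rw [pow_of_dvd (S.expE ε hεE) (dvd_choose_three hp2 hp3), mul_one] at hit
    exact absurd hit hz1
  have hn2 : 2 ≤ n := (Nat.pow_dvd_pow_iff_le_right hp.out.one_lt).mp
    (S.cardE ▸ hn ▸ Subgroup.card_subgroup_dvd_card E)
  refine ⟨hp3, hn2, lowerCentralSeries_ne_bot_of_centralizer n hn x
    (card_centralizer_eq_sq hG S.idx S.le S.cardE S.omega S.expE S.xC S.moved (z := z) hzE hz1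
      (Subgroup.mem_center_iff.mp hzc x).symm fun w hw hwx hwp => ?_)⟩
  have hη0 : w⁻¹ * f ∈ E := S.omega _ (C.mul_mem (C.inv_mem hw) hfC)
    (inv_mul_pow_eq_one hp2 hG hM hw hfC (hwp.trans hfp.symm))
  set η0 := w⁻¹ * f with hη0d
  have hηc : η ∈ Subgroup.center G := by
    obtain ⟨hdiffE, hdiffc⟩ := S.diff_central hG hη0 x
    have hf' : f = w * η0 := by rw [hη0d, mul_inv_cancel_left]
    have h1 : x⁻¹ * f * x = w * (x⁻¹ * η0 * x) := by
      rw [hf', ← mul_assoc x⁻¹, hwx.symm.inv_left.eq]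
      simp only [mul_assoc]
    have h2 : η = η0⁻¹ * (x⁻¹ * η0 * x) := by
      rw [hη, h1, hf', mul_inv_rev, mul_assoc, inv_mul_cancel_left]
    exact h2 ▸ hdiffc
  have hε1 : ε = 1 := by
    rw [hε, mul_assoc x⁻¹, ← Subgroup.mem_center_iff.mp hηc x, inv_mul_cancel_left, inv_mul_cancel]
  rw [hε1, one_pow, mul_one] at hit
  exact hz1 hit

/-- Generation of `G` by an element outside `C`, an element of `E` it moves, and `a`. -/
theorem Side.closure_eq_top (S : Side p C E x) {x' y a : G} (hx : x' ∉ C) (hy : y ∈ E)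
    (hyc : y ∉ Subgroup.center G) {P : ℕ} (haP : a ^ P ∈ E) (haPc : a ^ P ∈ Subgroup.center G) (ha1 : a ^ P ≠ 1)
    (hgen : ∀ c ∈ C, ∃ k : ℤ, ∃ e ∈ E, c = a ^ k * e) : Subgroup.closure ({x', y, a} : Set G) = ⊤ := by
  set H := Subgroup.closure ({x', y, a} : Set G) with hH
  have hxH : x' ∈ H := Subgroup.subset_closure (by simp)
  have hyH : y ∈ H := Subgroup.subset_closure (by simp)
  have haH : a ∈ H := Subgroup.subset_closure (by simp)
  have hEH : E ≤ H := by
    have hle : Subgroup.zpowers (a ^ P) < E ⊓ H := by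
      refine lt_of_le_of_ne (Subgroup.zpowers_le.mpr (Subgroup.mem_inf.mpr ⟨haP, pow_mem haH P⟩)) fun h => hyc ?_
      have : y ∈ Subgroup.zpowers (a ^ P) := h ▸ Subgroup.mem_inf.mpr ⟨hy, hyH⟩
      exact Subgroup.zpowers_le.mpr haPc this
    have hlt := Set.Finite.card_lt_card (Set.toFinite _) (SetLike.coe_ssubset_coe.mpr hle)
    change Nat.card (Subgroup.zpowers (a ^ P)) < Nat.card ↥(E ⊓ H) at hlt
    rw [Nat.card_zpowers, orderOf_eq_prime (S.expE _ haP) ha1] at hlt
    obtain ⟨k, hk, hk'⟩ := (Nat.dvd_prime_pow hp.out).mp (S.cardE ▸ Subgroup.card_dvd_of_le (inf_le_left : E ⊓ H ≤ E))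
    rw [hk'] at hlt
    nth_rewrite 1 [← pow_one p] at hlt
    have := (Nat.pow_lt_pow_iff_right hp.out.one_lt).mp hlt
    have h2 : E ⊓ H = E := Subgroup.eq_of_le_of_card_ge inf_le_left (by rw [S.cardE, hk', show k = 2 by omega])
    exact h2 ▸ inf_le_right
  have hCH : C ≤ H := fun c hc => by
    obtain ⟨k, e, he, rfl⟩ := hgen c hc
    exact H.mul_mem (H.zpow_mem haH k) (hEH he)
  exact (Cores.isCoatom_of_prime_index (S.idx.symm ▸ hp.out)).2 _ (lt_of_le_of_ne hCH fun h => hx (h ▸ hxH))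

set_option maxHeartbeats 4000000 in
/-- The remaining case: `C` is abelian and `G` is one of the two families. -/
theorem Side.families (S : Side p C E x) (hp2 : p ≠ 2) {n : ℕ} (hn : Nat.card G = p ^ n)
    (hno : ∀ d ∈ C, d ^ p ∈ E → d ^ p ∈ Subgroup.center G) :
    (3 ≤ n ∧ ∃ x y z : G, Subgroup.closure ({x, y, z} : Set G) = ⊤ ∧ x ^ p = 1 ∧ y ^ p = 1 ∧ z ^ p ^ (n - 2) = 1 ∧
        x * z = z * x ∧ y * z = z * y ∧ x⁻¹ * y * x = y * z ^ p ^ (n - 3)) ∨
    (4 ≤ n ∧ ∃ (s : ℕ) (x y z : G), (s = 1 ∨ ¬ IsSquare (s : ZMod p)) ∧ Subgroup.closure ({x, y, z} : Set G) = ⊤ ∧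
        x ^ p = 1 ∧ y ^ p = 1 ∧ z ^ p ^ (n - 2) = 1 ∧ y * z = z * y ∧ x⁻¹ * y * x = y * z ^ (s * p ^ (n - 3)) ∧
        x⁻¹ * z * x = y * z) := by
  classical
  have hG := S.isPGroup hn
  have hM := S.omegaCentral
  obtain ⟨e0, he0, he0x⟩ := S.moved
  set z0 := e0⁻¹ * (x⁻¹ * e0 * x) with hz0
  obtain ⟨hz0E, hz0c⟩ := S.diff_central hG he0 x
  have hz01 : z0 ≠ 1 := fun h => he0x (by
    have h' : x⁻¹ * e0 * x = e0 := by rwa [hz0, inv_mul_eq_one, eq_comm] at h
    show e0 * x = x * e0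
    calc e0 * x = x * (x⁻¹ * e0 * x) := by group
      _ = x * e0 := by rw [h'])
  -- an element of maximal order
  obtain ⟨a₀, ha₀, hmax₀⟩ := Set.exists_max_image (C : Set G) orderOf (Set.toFinite _) ⟨1, C.one_mem⟩
  obtain ⟨m, hm⟩ := hG.exists_orderOf_eq_pow a₀
  have hmax : ∀ c ∈ C, c ^ p ^ m = 1 := fun c hc => by
    obtain ⟨j, hj⟩ := hG.exists_orderOf_eq_pow c
    have := hmax₀ c hc
    rw [hj, hm] at this
    exact orderOf_dvd_iff_pow_eq_one.mp (hj ▸ pow_dvd_pow p ((Nat.pow_le_pow_iff_right hp.out.one_lt).mp this))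
  have hm1 : 1 ≤ m := by
    by_contra h
    have := hmax z0 (S.le hz0E)
    rw [show m = 0 by omega, pow_zero, pow_one] at this
    exact hz01 this
  obtain ⟨a, haC, hao, haPE, haPc, hcen1⟩ : ∃ a ∈ C, orderOf a = p ^ m ∧ a ^ p ^ (m - 1) ∈ E ∧
      a ^ p ^ (m - 1) ∈ Subgroup.center G ∧ (m = 1 → a ∈ Subgroup.center G) := by
    rcases Nat.eq_or_lt_of_le hm1 with h | h
    · subst h
      exact ⟨z0, S.le hz0E, by rw [pow_one]; exact orderOf_eq_prime (S.expE _ hz0E) hz01,
        by simpa using hz0E, by simpa using hz0c, fun _ => hz0c⟩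
    · refine ⟨a₀, ha₀, hm, ?_⟩
      have h1 : a₀ ^ p ^ (m - 1) = (a₀ ^ p ^ (m - 2)) ^ p := by
        rw [← pow_mul, ← pow_succ, show m - 2 + 1 = m - 1 by omega]
      have h2 : a₀ ^ p ^ (m - 1) ∈ E := S.omega _ (C.pow_mem ha₀ _) (by
        rw [← pow_mul, ← pow_succ, show m - 1 + 1 = m by omega, ← hm, pow_orderOf_eq_one])
      exact ⟨h2, h1 ▸ hno _ (C.pow_mem ha₀ _) (h1 ▸ h2), fun h' => absurd h' (by omega)⟩
  set z := a ^ p ^ (m - 1) with hz
  have hzne : z ≠ 1 := fun h => by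
    have := orderOf_dvd_of_pow_eq_one h
    rw [hao, Nat.pow_dvd_pow_iff_le_right hp.out.one_lt] at this
    omega
  have hzo : orderOf z = p := orderOf_eq_prime (S.expE z haPE) hzne
  have haE : ∀ (k : ℤ), ∀ e ∈ E, Commute (a ^ k) e := fun k e he => (S.comm a haC e he).zpow_left k
  have hEpk : ∀ e ∈ E, ∀ k : ℕ, 1 ≤ k → e ^ p ^ k = 1 := fun e he k hk =>
    pow_of_dvd (S.expE e he) (dvd_pow_self p (by omega))
  -- `C = ⟨a⟩ E`
  have hgen : ∀ c ∈ C, ∃ k : ℤ, ∃ e ∈ E, c = a ^ k * e := by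
    suffices H : ∀ j : ℕ, ∀ c ∈ C, c ^ p ^ j = 1 → ∃ k : ℤ, ∃ e ∈ E, c = a ^ k * e from
      fun c hc => H m c hc (hmax c hc)
    intro j
    induction j with
    | zero =>
      intro c _ hc
      rw [pow_zero, pow_one] at hc
      exact ⟨0, 1, E.one_mem, by rw [hc, zpow_zero, one_mul]⟩
    | succ j ih =>
      intro c hc hcj
      by_cases hcp : c ^ p = 1
      · exact ⟨0, c, S.omega c hc hcp, by rw [zpow_zero, one_mul]⟩
      obtain ⟨k, e, he, hk⟩ := ih (c ^ p) (C.pow_mem hc p) (by rw [← pow_mul, ← pow_succ']; exact hcj)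
      have hm2 : 2 ≤ m := by
        by_contra h
        have := hmax c hc
        rw [show m = 1 by omega, pow_one] at this
        exact hcp this
      obtain ⟨k', rfl⟩ : (p : ℤ) ∣ k := by
        have h1 : (c ^ p) ^ p ^ (m - 1) = 1 := by
          rw [← pow_mul, ← pow_succ', show m - 1 + 1 = m by omega]; exact hmax c hc
        rw [hk, (haE k e he).mul_pow, hEpk e he (m - 1) (by omega), mul_one, ← zpow_natCast,
          ← zpow_mul, ← orderOf_dvd_iff_zpow_eq_one, hao] at h1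
        have h2 : ((p ^ m : ℕ) : ℤ) = (p : ℤ) * ((p ^ (m - 1) : ℕ) : ℤ) := by
          rw [← Nat.cast_mul, ← pow_succ', show m - 1 + 1 = m by omega]
        rw [h2] at h1
        exact Int.dvd_of_mul_dvd_mul_right (by exact_mod_cast (pow_pos hp.out.pos _).ne') h1
      have key : ∀ i : ℤ, (c * a ^ i) ^ p = a ^ ((p : ℤ) * (k' + i)) * e := by
        intro i
        have hcomm : Commute (a ^ i) (c ^ p) := by
          rw [hk]
          exact ((Commute.refl a).zpow_zpow i _).mul_right (haE i e he)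
        rw [mul_pow_of_commute_pow hp2 hG hM hc (C.zpow_mem haC i) hcomm, hk, mul_assoc, ← zpow_natCast (a ^ i),
          ← zpow_mul, (haE _ e he).symm.eq, ← mul_assoc, ← zpow_add]
        congr 2
        ring
      have he' : e ∈ Subgroup.center G := by
        have h1 := key (-k')
        rw [add_neg_cancel, mul_zero, zpow_zero, one_mul] at h1
        exact h1 ▸ hno _ (C.mul_mem hc (C.zpow_mem haC _)) (h1.symm ▸ he)
      obtain ⟨l, hl⟩ := S.mem_zpowers haPE haPc hzne he he'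
      have hl' : a ^ ((p ^ (m - 1) : ℕ) * l : ℤ) = e := by
        have hl0 : z ^ l = e := hl
        rw [← hl0, hz, ← zpow_natCast, ← zpow_mul]
      set i := -k' - (p ^ (m - 2) : ℕ) * l with hi
      have h1 : (c * a ^ i) ^ p = 1 := by
        rw [key, ← hl', ← zpow_add]
        have h0 : (p : ℤ) * (k' + i) + (p ^ (m - 1) : ℕ) * l = 0 := by
          rw [hi, show m - 1 = m - 2 + 1 by omega, pow_succ', Nat.cast_mul]; ring
        rw [h0, zpow_zero]
      have h2 := S.omega _ (C.mul_mem hc (C.zpow_mem haC i)) h1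
      refine ⟨-i, c * a ^ i, h2, ?_⟩
      rw [(haE (-i) _ h2).eq, mul_assoc, ← zpow_add, add_neg_cancel, zpow_zero, mul_one]
  have hCcomm : ∀ u ∈ C, ∀ v ∈ C, Commute u v := by
    intro u hu v hv
    obtain ⟨k, e, he, rfl⟩ := hgen u hu
    exact ((show Commute (a ^ k) v from by
      obtain ⟨l, e', he', rfl⟩ := hgen v hv
      exact ((Commute.refl a).zpow_zpow k l).mul_right (haE k e' he'))).mul_left (S.comm v hv e he).symm
  -- the order
  have hnm : n = m + 2 := by
    have hCeq : C = Subgroup.zpowers a ⊔ E := by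
      refine le_antisymm (fun c hc => ?_) (sup_le (Subgroup.zpowers_le.mpr haC) S.le)
      obtain ⟨k, e, he, rfl⟩ := hgen c hc
      exact Subgroup.mul_mem_sup ⟨k, rfl⟩ he
    have hinf : Subgroup.zpowers a ⊓ E = Subgroup.zpowers z := by
      refine le_antisymm (fun t ht => ?_) (Subgroup.zpowers_le.mpr (Subgroup.mem_inf.mpr
        ⟨pow_mem (Subgroup.mem_zpowers a) _, haPE⟩))
      obtain ⟨⟨i, rfl⟩, htE⟩ := Subgroup.mem_inf.mp ht
      have h1 := S.expE _ htE
      rw [← zpow_natCast, ← zpow_mul, ← orderOf_dvd_iff_zpow_eq_one, hao, show m = m - 1 + 1 by omega, pow_succ,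
        Nat.cast_mul] at h1
      obtain ⟨q, hq⟩ := Int.dvd_of_mul_dvd_mul_right (by exact_mod_cast hp.out.ne_zero) h1
      refine ⟨q, ?_⟩
      show z ^ q = a ^ i
      rw [hz, hq, ← zpow_natCast, ← zpow_mul]
    have h1 := Cores.card_sup_mul_card_inf (Subgroup.zpowers a) E
    rw [← hCeq, hinf, Nat.card_zpowers, Nat.card_zpowers, hao, hzo, S.cardE, ← S.idx, C.card_mul_index, hn,
      S.idx, ← pow_add] at h1
    exact Nat.pow_right_injective hp.out.two_le h1
  have hn2 : n - 2 = m := by omega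
  have hn3 : n - 3 = m - 1 := by omega
  rw [hn2, hn3]
  -- `x⁻¹ * a * x = a * b` with `b ^ p = 1`
  set b := a⁻¹ * (x⁻¹ * a * x) with hb
  have hax : x⁻¹ * a * x ∈ C := by simpa using (inferInstance : C.Normal).conj_mem a haC x⁻¹
  have hab : a * x = x * (a * b) := by rw [hb]; group
  have hbE : b ∈ E := by
    by_cases hm' : m = 1
    · rw [hb, mul_assoc x⁻¹, ← Subgroup.mem_center_iff.mp (hcen1 hm') x, inv_mul_cancel_left, inv_mul_cancel]
      exact E.one_mem
    refine S.omega b (C.mul_mem (C.inv_mem haC) hax) ?_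
    obtain ⟨k, w, hw, hk⟩ := hgen _ hax
    obtain ⟨u, hu⟩ : a ^ k ∈ Submonoid.powers a := mem_powers_iff_mem_zpowers.mpr ⟨k, rfl⟩
    change a ^ u = a ^ k at hu
    rw [← hu] at hk
    have hau : a * x = x * (a ^ u * w) := by rw [← hk]; group
    have hwa : Commute (a ^ u) w := (S.comm a haC w hw).pow_left u
    -- first modulo `p`
    have hpi : ∀ i : ℕ, a ^ p * x ^ i = x ^ i * (a ^ p) ^ u ^ i := by
      have h0 : a ^ p * x = x * (a ^ p) ^ u := by
        rw [← pow_mul, mul_comm p u, pow_mul, ← mul_one ((a ^ u) ^ p), ← S.expE w hw, ← hwa.mul_pow]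
        exact ((show SemiconjBy x (a ^ u * w) a from hau.symm).pow_right p).eq.symm
      intro i
      induction i with
      | zero => simp
      | succ i ih =>
        rw [pow_succ x, ← mul_assoc, ih, mul_assoc,
          ← ((show SemiconjBy x ((a ^ p) ^ u) (a ^ p) from h0.symm).pow_right (u ^ i)).eq, ← mul_assoc,
          ← pow_mul (a ^ p), ← pow_succ']
    have hu1 : (u : ZMod p) = 1 := by
      have h := hpi p
      rw [S.xp, mul_one, one_mul, ← pow_mul] at h
      have h2 : p * u ^ p ≡ p * 1 [MOD p * p ^ (m - 1)] := by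
        rw [mul_one, ← pow_succ', show m - 1 + 1 = m by omega, ← hao]
        exact pow_eq_pow_iff_modEq.mp h.symm
      have h3 := (Nat.ModEq.mul_left_cancel' hp.out.ne_zero h2).of_dvd (dvd_pow_self p (show m - 1 ≠ 0 by omega))
      have h4 := (ZMod.natCast_eq_natCast_iff _ _ _).mpr h3
      rwa [Nat.cast_pow, ZMod.pow_card, Nat.cast_one] at h4
    have hwu : ∀ i : ℕ, w ^ u ^ i = w := fun i => by
      conv_rhs => rw [← pow_one w]
      refine pow_eq_pow_iff_modEq.mpr (Nat.ModEq.of_dvd (orderOf_dvd_of_pow_eq_one (S.expE w hw)) ?_)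
      rw [← ZMod.natCast_eq_natCast_iff, Nat.cast_pow, hu1, one_pow, Nat.cast_one]
    -- then modulo `p ^ m`
    set ζ := w⁻¹ * (x⁻¹ * w * x) with hζ
    obtain ⟨hζE, hζc⟩ := S.diff_central hG hw x
    have hζx : ζ * x = x * ζ := (Subgroup.mem_center_iff.mp hζc x).symm
    have hwx : w * x = x * (w * ζ) := by rw [hζ]; group
    have hform : ∀ i : ℕ, a * x ^ i = x ^ i * (a ^ u ^ i * w ^ i * ζ ^ i.choose 2) := by
      intro i
      induction i with
      | zero => simp
      | succ i ih =>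
        have h1 : a ^ u ^ i * x = x * (a ^ u ^ (i + 1) * w) := by
          have := ((show SemiconjBy x (a ^ u * w) a from hau.symm).pow_right (u ^ i)).eq
          rw [hwa.mul_pow, hwu, ← pow_mul, ← pow_succ'] at this
          exact this.symm
        have h2 : w ^ i * x = x * (w ^ i * ζ ^ i) := by
          rw [← (S.comm w (S.le hw) ζ hζE).mul_pow]
          exact ((show SemiconjBy x (w * ζ) w from hwx.symm).pow_right i).eq.symm
        have h3 : ζ ^ i.choose 2 * x = x * ζ ^ i.choose 2 :=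
          ((show SemiconjBy x ζ ζ from hζx.symm).pow_right _).eq.symm
        calc a * x ^ (i + 1) = x ^ i * (a ^ u ^ i * w ^ i * (ζ ^ i.choose 2 * x)) := by
              rw [pow_succ, ← mul_assoc, ih]; simp only [mul_assoc]
          _ = x ^ i * (a ^ u ^ i * (w ^ i * x) * ζ ^ i.choose 2) := by rw [h3]; simp only [mul_assoc]
          _ = x ^ i * (a ^ u ^ i * x * (w ^ i * ζ ^ i) * ζ ^ i.choose 2) := by rw [h2]; simp only [mul_assoc]
          _ = _ := by
            have hch : (i + 1).choose 2 = i + i.choose 2 := by rw [Nat.choose_succ_succ', Nat.choose_one_right]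
            rw [h1, pow_succ x, hch, pow_add ζ, pow_succ' w]
            simp only [mul_assoc]
    have hup := hform p
    rw [S.xp, mul_one, one_mul, S.expE w hw, mul_one, pow_of_dvd (S.expE ζ hζE) (dvd_choose hp2), mul_one] at hup
    have hup' : u ^ p ≡ 1 [MOD p ^ m] := hao ▸ pow_eq_pow_iff_modEq.mp (by rw [pow_one]; exact hup.symm)
    obtain ⟨d, rfl⟩ : ∃ d, u = 1 + d := by
      refine ⟨u - 1, ?_⟩
      rcases Nat.eq_zero_or_pos u with rfl | h
      · simp at hu1
      · omega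
    rw [Metacyclic.pow_eq_one_add, Nat.ModEq.comm, Nat.modEq_iff_dvd' (Nat.le_add_right _ _),
      Nat.add_sub_cancel_left] at hup'
    obtain ⟨v, hv⟩ := Metacyclic.gsum_prime hp2 hu1
    rw [hv, ← mul_assoc] at hup'
    have hdp : p ^ m ∣ d * p := by
      refine (Nat.Coprime.pow_left m ?_).dvd_of_dvd_mul_right hup'
      rw [Nat.coprime_add_mul_left_right]
      exact Nat.coprime_one_right p
    have hbeq : b = a ^ d * w := by
      rw [hb, hk, pow_add, pow_one, mul_assoc, inv_mul_cancel_left]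
    rw [hbeq, ((S.comm a haC w hw).pow_left d).mul_pow, S.expE w hw, mul_one, ← pow_mul]
    exact orderOf_dvd_iff_pow_eq_one.mp (hao ▸ hdp)
  have hPz : ∀ k : ℕ, a ^ (k * p ^ (m - 1)) = z ^ k := fun k => by rw [hz, mul_comm, pow_mul]
  by_cases hbc : b ∈ Subgroup.center G
  · -- an element of maximal order centralised by `x`
    left
    obtain ⟨a', ha'C, ha'x, ha'P, ha'gen⟩ : ∃ a' ∈ C, a' * x = x * a' ∧ a' ^ p ^ (m - 1) = z ∧
        ∀ c ∈ C, ∃ k : ℤ, ∃ e ∈ E, c = a' ^ k * e := by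
      by_cases hb1 : b = 1
      · exact ⟨a, haC, by rw [hab, hb1, mul_one], hz.symm, hgen⟩
      have hm2 : 2 ≤ m := by
        by_contra h
        exact hb1 (by rw [hb, mul_assoc x⁻¹, ← Subgroup.mem_center_iff.mp (hcen1 (by omega)) x,
          inv_mul_cancel_left, inv_mul_cancel])
      obtain ⟨i, hi⟩ := S.mem_zpowers hz0E hz0c hz01 hbE hbc
      have hes : e0 ^ (-i) ∈ E := E.zpow_mem he0 _
      have hex : e0 ^ (-i) * x = x * (e0 ^ (-i) * z0 ^ (-i)) := by
        rw [← (S.comm e0 (S.le he0) z0 hz0E).mul_zpow]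
        exact ((show SemiconjBy x (e0 * z0) e0 from (show e0 * x = x * (e0 * z0) by rw [hz0]; group).symm).zpow_right (-i)).eq.symm
      have hi' : z0 ^ i = b := hi
      refine ⟨a * e0 ^ (-i), C.mul_mem haC (S.le hes), ?_, ?_, fun c hc => ?_⟩
      · calc a * e0 ^ (-i) * x = a * x * (e0 ^ (-i) * z0 ^ (-i)) := by rw [mul_assoc, hex, ← mul_assoc]
          _ = x * (a * (b * (e0 ^ (-i) * z0 ^ (-i)))) := by rw [hab]; simp only [mul_assoc]
          _ = x * (a * e0 ^ (-i)) := by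
            rw [← mul_assoc b, ← Subgroup.mem_center_iff.mp hbc (e0 ^ (-i)), mul_assoc, ← hi', ← zpow_add,
              add_neg_cancel, zpow_zero, mul_one]
      · rw [(S.comm a haC _ hes).mul_pow, hEpk _ hes (m - 1) (by omega), mul_one]
      · obtain ⟨k, e, he, rfl⟩ := hgen c hc
        refine ⟨k, (e0 ^ (-i)) ^ (-k) * e, E.mul_mem (E.zpow_mem hes _) he, ?_⟩
        rw [(S.comm a haC _ hes).mul_zpow, mul_assoc, ← mul_assoc ((e0 ^ (-i)) ^ k), ← zpow_add, add_neg_cancel,
          zpow_zero, one_mul]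
    obtain ⟨l, hl⟩ := S.mem_zpowers hz0E hz0c hz01 haPE haPc
    have hl' : z0 ^ l = z := hl
    have hyE : e0 ^ l ∈ E := E.zpow_mem he0 l
    have hy : e0 ^ l * x = x * (e0 ^ l * z) := by
      rw [← hl', ← (S.comm e0 (S.le he0) z0 hz0E).mul_zpow]
      exact ((show SemiconjBy x (e0 * z0) e0 from (show e0 * x = x * (e0 * z0) by rw [hz0]; group).symm).zpow_right l).eq.symm
    have hyc : e0 ^ l ∉ Subgroup.center G := fun h => hzne (by
      rw [← Subgroup.mem_center_iff.mp h x] at hy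
      exact mul_eq_left.mp (mul_left_cancel hy).symm)
    refine ⟨by omega, x, e0 ^ l, a', S.closure_eq_top S.xC hyE hyc (ha'P.symm ▸ haPE) (ha'P.symm ▸ haPc)
      (ha'P.symm ▸ hzne) ha'gen, S.xp, S.expE _ hyE, hmax a' ha'C, ha'x.symm, (S.comm a' ha'C _ hyE).eq.symm, ?_⟩
    rw [ha'P, mul_assoc, hy, inv_mul_cancel_left]
  · -- `b` is moved by `x`
    right
    have hm2 : 2 ≤ m := by
      by_contra h
      refine hbc ?_
      rw [hb, mul_assoc x⁻¹, ← Subgroup.mem_center_iff.mp (hcen1 (by omega)) x, inv_mul_cancel_left, inv_mul_cancel]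
      exact one_mem _
    set ζ := b⁻¹ * (x⁻¹ * b * x) with hζ
    obtain ⟨hζE, hζc⟩ := S.diff_central hG hbE x
    have hζcomm : ∀ g, Commute ζ g := fun g => (Subgroup.mem_center_iff.mp hζc g).symm
    have hbx : b * x = x * (b * ζ) := by rw [hζ]; group
    obtain ⟨s, hs⟩ : ζ ∈ Submonoid.powers z :=
      mem_powers_iff_mem_zpowers.mpr (S.mem_zpowers haPE haPc hzne hζE hζc)
    change z ^ s = ζ at hs
    have hs0 : (s : ZMod p) ≠ 0 := fun h => by
      rw [ZMod.natCast_eq_zero_iff] at h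
      refine hbc (S.mem_center_of_commute hbE ?_)
      show b * x = x * b
      rw [hbx, ← hs, orderOf_dvd_iff_pow_eq_one.mp (hzo.symm ▸ h), mul_one]
    by_cases hsq : IsSquare (s : ZMod p)
    · obtain ⟨r, hr⟩ := hsq
      have hr0 : r ≠ 0 := fun h => hs0 (by rw [hr, h, mul_zero])
      set c := (r⁻¹).val with hc
      have hc1 : ((s * (c * c) : ℕ) : ZMod p) = 1 := by
        rw [Nat.cast_mul, Nat.cast_mul, hc, ZMod.natCast_zmod_val, hr]
        field_simp
      have hzsc : ζ ^ (c * c) = z := by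
        rw [← hs, ← pow_mul]
        conv_rhs => rw [← pow_one z]
        refine pow_eq_pow_iff_modEq.mpr ?_
        rw [hzo, ← ZMod.natCast_eq_natCast_iff, hc1, Nat.cast_one]
      have hxc : x ^ c ∉ C := fun h => by
        have hcd : ¬ p ∣ c := by
          rw [← ZMod.natCast_eq_zero_iff, hc, ZMod.natCast_zmod_val]
          exact inv_ne_zero hr0
        obtain ⟨q, -, hq⟩ := Nat.exists_mul_mod_eq_one_of_coprime
          ((hp.out.coprime_iff_not_dvd.mpr hcd).symm) hp.out.one_lt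
        refine S.xC ?_
        rw [← pow_one x, ← hq, ← pow_mod_orderOf, Nat.mod_mod_of_dvd _ (orderOf_dvd_of_pow_eq_one S.xp),
          pow_mod_orderOf, pow_mul]
        exact C.pow_mem h q
      set Y := b ^ c * ζ ^ c.choose 2 with hY
      have hYE : Y ∈ E := E.mul_mem (E.pow_mem hbE _) (E.pow_mem hζE _)
      have ha' : a * x ^ c = x ^ c * (a * Y) := by
        rw [iterate (x := x) (d := a) (f := b) (η := ζ) (ε := 1) hab hbx (by rw [mul_one]; exact (hζcomm x).eq)
          (by rw [one_mul, mul_one]) (hζcomm b).symm (Commute.one_right b) (Commute.one_right ζ) c, one_pow,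
          mul_one, hY, ← mul_assoc a]
      have hb' : b * x ^ c = x ^ c * (b * ζ ^ c) := by
        rw [iterate (x := x) (d := b) (f := ζ) (η := 1) (ε := 1) hbx (by rw [mul_one]; exact (hζcomm x).eq)
          (by rw [one_mul, mul_one, mul_one]) (by rw [one_mul, mul_one]) (Commute.one_right ζ) (Commute.one_right ζ)
          (Commute.one_right 1) c, one_pow, one_pow, mul_one, mul_one]
      have hY' : Y * x ^ c = x ^ c * (Y * z) := by
        have h1 : b ^ c * x ^ c = x ^ c * (b * ζ ^ c) ^ c :=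
          ((show SemiconjBy (x ^ c) (b * ζ ^ c) b from hb'.symm).pow_right c).eq.symm
        rw [((hζcomm b).pow_left c).symm.mul_pow, ← pow_mul, hzsc] at h1
        rw [hY, mul_assoc, ((hζcomm (x ^ c)).pow_left _).eq, ← mul_assoc, h1]
        simp only [mul_assoc]
        rw [(Subgroup.mem_center_iff.mp haPc (ζ ^ c.choose 2))]
      have hYc : Y ∉ Subgroup.center G := fun h => hzne (by
        rw [← Subgroup.mem_center_iff.mp h (x ^ c)] at hY'
        exact mul_eq_left.mp (mul_left_cancel hY').symm)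
      refine ⟨by omega, 1, x ^ c, Y, a, Or.inl rfl,
        S.closure_eq_top hxc hYE hYc haPE haPc hzne hgen, ?_, S.expE _ hYE, hmax a haC,
        (S.comm a haC _ hYE).eq.symm, ?_, ?_⟩
      · rw [← pow_mul, mul_comm, pow_mul, S.xp, one_pow]
      · rw [hPz, pow_one, mul_assoc, hY', inv_mul_cancel_left]
      · rw [mul_assoc, ha', inv_mul_cancel_left, (S.comm a haC _ hYE).eq]
    · refine ⟨by omega, s, x, b, a, Or.inr hsq, S.closure_eq_top S.xC hbE hbc haPE haPc hzne hgen, S.xp,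
        S.expE _ hbE, hmax a haC, (S.comm a haC _ hbE).eq.symm, ?_, ?_⟩
      · rw [hPz, hs, mul_assoc, hbx, inv_mul_cancel_left]
      · rw [mul_assoc, hab, inv_mul_cancel_left, (S.comm a haC _ hbE).eq]

end Cfsg.Agent.Lib.RankTwo
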